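import Groth.Agent.EtDual.K152.DvrPure
import Groth.Agent.Sga5.H177.HYStalk
import Groth.Agent.Lefpen.H651.DvrJ
import Groth.Agent.Sga4B.StalkLocal
import Groth.Agent.S0642

/-!
# Local cohomology at the closed point and cohomology of the punctured spectrum

`A` strictly henselian, `j : U ⟶ Spec A` the open immersion onto the complement of the closed point.
* `isZero_locCoh_iff` : `ℋ^q_x(F) = 0` iff its stalk at the closed point vanishes;
* `nonempty_stalk_locCoh` : that stalk is `H^{q-1}(U, F)` for `q ≥ 2`;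
* `punct_of_pure`, `top_of_pure`, `pure_of_punct` : purity in terms of `H^q(U, ℤ/n)`.
-/

set_option autoImplicit false
universe u
open CategoryTheory CategoryTheory.Limits AlgebraicGeometry Opposite IsLocalRing

namespace K152.PunctH

open Groth.Agent Groth.Agent.Etbase Groth.Agent.Sga5

section Dict

variable (A : Type u) [CommRing A] [HenselianLocalRing A] [IsSepClosed (ResidueField A)]

theorem range_pt : Set.range (StrictHensPoint.pt A) = {closedPoint A} :=
  DvrPure.range_spec_residue (residue A) residue_surjective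

instance isClosedImmersion_pt : IsClosedImmersion (StrictHensPoint.pt A) :=
  IsClosedImmersion.spec_of_surjective _ residue_surjective

variable {A} {U : Scheme.{u}} (j : U ⟶ Spec (CommRingCat.of A)) [IsOpenImmersion j]

theorem isZero_iff_stalk (F : EtCoh.Ab (Spec (CommRingCat.of A)))
    (hF : EtPBC.supp F ⊆ {closedPoint A}) :
    IsZero F ↔ IsZero ((EtCoh.stalk (StrictHensPoint.pt A)).obj F) := by
  have h0 := EtpbcA.Artin.mem_supp_iff F (closedPoint A : Spec (CommRingCat.of A))
    (StrictHensPoint.pt A) (range_pt A)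
  constructor
  · intro h
    by_contra hcon
    exact EtpbcA.Artin.supp_eq_empty_of_isZero h _ (h0.2 hcon)
  · intro h
    refine EtpbcA.Artin.isZero_of_forall F fun x hx => ?_
    have hx' : x = (closedPoint A : Spec (CommRingCat.of A)) := hF hx
    rw [hx'] at hx
    exact h0.1 hx h

theorem isZero_locCoh_iff (hU : (Set.range j)ᶜ ⊆ {closedPoint A})
    (F : EtCoh.Ab (Spec (CommRingCat.of A))) (q : ℕ) :
    IsZero ((EtDual.locCoh j q).obj F) ↔
      IsZero ((EtCoh.stalk (StrictHensPoint.pt A)).obj ((EtDual.locCoh j q).obj F)) :=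
  isZero_iff_stalk _ ((H852.ShriekLoc.supp_locCoh j F q).trans hU)

theorem isZero_locCoh_iff_HY (hU : (Set.range j)ᶜ ⊆ {closedPoint A})
    (F : EtCoh.Ab (Spec (CommRingCat.of A))) (q : ℕ) :
    IsZero ((EtDual.locCoh j q).obj F) ↔ IsZero ((EtDual.HY j q).obj F) := by
  obtain ⟨e⟩ := H177.HYStalk.nonempty_iso (StrictHensPoint.pt A) j (by rwa [range_pt]) F q
  rw [isZero_locCoh_iff j hU]
  exact e.isZero_iff.symm

/-- The stalk of `ℋ^{q+2}_x(F)` is `H^{q+1}(U, F)`. -/
theorem nonempty_stalk_locCoh [QuasiCompact j] (F : EtCoh.Ab (Spec (CommRingCat.of A))) (q : ℕ) :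
    Nonempty ((EtCoh.stalk (StrictHensPoint.pt A)).obj ((EtDual.locCoh j (q + 2)).obj F) ≃+
      EtCoh.H U ((EtCoh.pull j).obj F) (q + 1)) := by
  obtain ⟨e⟩ := Lefpen.H651.DvrJ.nonempty_stalk_Rpush A j ((EtCoh.pull j).obj F) (q + 1)
  exact ⟨((EtCoh.stalk (StrictHensPoint.pt A)).mapIso
    (Sga4h.LocCohLES.locCohSuccIso j F q)).symm.addCommGroupIsoToAddEquiv.trans e⟩

/-- The stalk of `ℋ^{q+2}_x(ℤ/n)` is `H^{q+1}(U, ℤ/n)`. -/
theorem nonempty_stalk_locCoh_const [QuasiCompact j] (M : Type) [AddCommGroup M] (q : ℕ) :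
    Nonempty ((EtCoh.stalk (StrictHensPoint.pt A)).obj
      ((EtDual.locCoh j (q + 2)).obj (EtCoh.const (Spec (CommRingCat.of A)) M)) ≃+
      EtCoh.H U (EtCoh.const U M) (q + 1)) := by
  obtain ⟨e⟩ := nonempty_stalk_locCoh j (EtCoh.const (Spec (CommRingCat.of A)) M) q
  exact ⟨e.trans (Etrest.IsoInv.HCongr (EtCore.pullConst j M) (q + 1))⟩

theorem subsingleton_H_iff [QuasiCompact j] (hU : (Set.range j)ᶜ ⊆ {closedPoint A}) (M : Type)
    [AddCommGroup M] (q : ℕ) :
    Subsingleton (EtCoh.H U (EtCoh.const U M) (q + 1)) ↔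
      IsZero ((EtDual.locCoh j (q + 2)).obj (EtCoh.const (Spec (CommRingCat.of A)) M)) := by
  obtain ⟨e⟩ := nonempty_stalk_locCoh_const j M q
  rw [isZero_locCoh_iff j hU]
  constructor
  · intro h
    have : Subsingleton ((EtCoh.stalk (StrictHensPoint.pt A)).obj
      ((EtDual.locCoh j (q + 2)).obj (EtCoh.const (Spec (CommRingCat.of A)) M))) := e.toEquiv.subsingleton
    exact AddCommGrpCat.isZero_of_subsingleton _
  · intro h
    have := AddCommGrpCat.subsingleton_of_isZero h
    exact e.symm.toEquiv.subsingleton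

/-- The stalk at the closed point of the direct image of the constant sheaf on the closed point. -/
theorem nonempty_stalk_push_const (M : Type) [AddCommGroup M] :
    Nonempty ((EtCoh.stalk (StrictHensPoint.pt A)).obj ((EtCoh.push (StrictHensPoint.pt A)).obj
      (EtCoh.const (Spec (CommRingCat.of (ResidueField A))) M)) ≃+ M) := by
  obtain ⟨e⟩ := Sga4B.StalkLocal.nonempty_stalk_push_pull_const (StrictHensPoint.pt A) M
    (StrictHensPoint.pt A) ⟨_, rfl⟩
  exact ⟨((EtCoh.stalk (StrictHensPoint.pt A)).mapIso ((EtCoh.push (StrictHensPoint.pt A)).mapIso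
    (EtCore.pullConst (StrictHensPoint.pt A) M))).symm.addCommGroupIsoToAddEquiv.trans e⟩

end Dict

section Pure

variable {A : Type u} [CommRing A] [IsLocalRing A] (hA : EtCoh.IsStrictlyHenselianLocalRing A)
  {U : Scheme.{u}} (j : U ⟶ Spec (CommRingCat.of A)) [IsOpenImmersion j] [QuasiCompact j]
  (hU : Set.range j = {closedPoint A}ᶜ)

include hA hU

/-- Vanishing of the cohomology of the punctured spectrum from purity. -/
theorem punct_of_pure {M : Type} [AddCommGroup M] {d : ℕ}
    (hz : ∀ q : ℕ, q ≠ 2 * d → IsZero ((EtDual.locCoh j q).obj (EtCoh.const (Spec (CommRingCat.of A)) M)))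
    (q : ℕ) (hq : 1 ≤ q) (hqd : q + 1 ≠ 2 * d) : Subsingleton (EtCoh.H U (EtCoh.const U M) q) := by
  obtain ⟨h1, h2⟩ := hA
  obtain ⟨r, rfl⟩ : ∃ r, q = r + 1 := ⟨q - 1, by omega⟩
  exact (subsingleton_H_iff j (by rw [hU, compl_compl]) M r).2 (hz (r + 2) (by omega))

/-- The top cohomology of the punctured spectrum from purity. -/
theorem top_of_pure {n : ℕ} (hn0 : 0 < n) (hn : IsUnit (n : A)) {d : ℕ} (hd : 1 ≤ d)
    (ht : Nonempty ((EtDual.locCoh j (2 * d)).obj (EtDual.tate (Spec (CommRingCat.of A)) n d) ≅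
      (EtCoh.push (Spec.map (CommRingCat.ofHom (residue A)))).obj
        (EtCoh.const (Spec (CommRingCat.of (ResidueField A))) (ZMod n)))) :
    Nonempty (EtCoh.H U (EtCoh.const U (ZMod n)) (2 * d - 1) ≃+ ZMod n) := by
  obtain ⟨t⟩ := DvrPure.nonempty_tate_iso A hA n hn0 hn (𝟙 _) d
  obtain ⟨h1, h2⟩ := hA
  obtain ⟨b⟩ := ht
  obtain ⟨r, hr⟩ : ∃ r, 2 * d = r + 2 := ⟨2 * d - 2, by omega⟩
  have hr1 : 2 * d - 1 = r + 1 := by omega
  obtain ⟨e⟩ := nonempty_stalk_locCoh_const j (ZMod n) r
  obtain ⟨c⟩ := nonempty_stalk_push_const (A := A) (ZMod n)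
  rw [hr1]
  rw [hr] at b
  exact ⟨e.symm.trans (((EtCoh.stalk (StrictHensPoint.pt A)).mapIso
    ((EtDual.locCoh j (r + 2)).mapIso t ≪≫ b)).addCommGroupIsoToAddEquiv.trans c)⟩

/-- Purity from the vanishing of the cohomology of the punctured spectrum. -/
theorem pure_of_punct {M : Type} [AddCommGroup M] {d : ℕ}
    (h0 : IsZero ((EtDual.locCoh j 0).obj (EtCoh.const (Spec (CommRingCat.of A)) M)))
    (h1 : IsZero ((EtDual.locCoh j 1).obj (EtCoh.const (Spec (CommRingCat.of A)) M)))
    (h : ∀ q : ℕ, 1 ≤ q → q + 1 ≠ 2 * d → Subsingleton (EtCoh.H U (EtCoh.const U M) q)) (q : ℕ)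
    (hq : q ≠ 2 * d) : IsZero ((EtDual.locCoh j q).obj (EtCoh.const (Spec (CommRingCat.of A)) M)) := by
  obtain ⟨h2, h3⟩ := hA
  match q with
  | 0 => exact h0
  | 1 => exact h1
  | r + 2 => exact (subsingleton_H_iff j (by rw [hU, compl_compl]) M r).1 (h (r + 1) (by omega) (by omega))

/-- The top local cohomology sheaf from the top cohomology of the punctured spectrum. -/
theorem pure_top_of_punct {n : ℕ} (hn0 : 0 < n) (hn : IsUnit (n : A)) {d : ℕ} (hd : 1 ≤ d)
    (ht : Nonempty (EtCoh.H U (EtCoh.const U (ZMod n)) (2 * d - 1) ≃+ ZMod n)) :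
    Nonempty ((EtDual.locCoh j (2 * d)).obj (EtDual.tate (Spec (CommRingCat.of A)) n d) ≅
      (EtCoh.push (Spec.map (CommRingCat.ofHom (residue A)))).obj
        (EtCoh.const (Spec (CommRingCat.of (ResidueField A))) (ZMod n))) := by
  obtain ⟨t⟩ := DvrPure.nonempty_tate_iso A hA n hn0 hn (𝟙 _) d
  obtain ⟨h1, h2⟩ := hA
  obtain ⟨b⟩ := ht
  obtain ⟨r, hr⟩ : ∃ r, 2 * d = r + 2 := ⟨2 * d - 2, by omega⟩
  have hr1 : 2 * d - 1 = r + 1 := by omega
  obtain ⟨e⟩ := nonempty_stalk_locCoh_const j (ZMod n) r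
  rw [hr1] at b
  rw [hr]
  let G := (EtDual.locCoh j (r + 2)).obj (EtCoh.const (Spec (CommRingCat.of A)) (ZMod n))
  have hsupp : EtPBC.supp G ⊆ Set.range (StrictHensPoint.pt A) := by
    rw [range_pt]
    refine (H852.ShriekLoc.supp_locCoh j _ _).trans ?_
    rw [hU, compl_compl]
  have hiso : IsIso ((EtCoh.pullPushAdj (StrictHensPoint.pt A)).unit.app G) :=
    EtpbcA.SuppClosed.isIso_unit_of_supp (StrictHensPoint.pt A) _ hsupp
  have e2 : EtCoh.sect ((EtCoh.pull (StrictHensPoint.pt A)).obj G)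
      (EtCoh.top (Spec (CommRingCat.of (ResidueField A)))) ≃+ ZMod n :=
    ((EtpbcB.SepClosedPoint.stalkIsoGammaPull (Ω := ResidueField A)
      (StrictHensPoint.pt A)).app G).addCommGroupIsoToAddEquiv.symm.trans (e.trans b)
  obtain ⟨c⟩ := Lefpen.H651.DvrJ.nonempty_iso_const_of_equiv _ (ZMod n) e2
  exact ⟨(EtDual.locCoh j (r + 2)).mapIso t.symm ≪≫
    asIso ((EtCoh.pullPushAdj (StrictHensPoint.pt A)).unit.app G) ≪≫
    (EtCoh.push (StrictHensPoint.pt A)).mapIso c.symm⟩

end Pure

section EqualChar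

variable (A : Type u) [CommRing A] [IsRegularLocalRing A] (hA : EtCoh.IsStrictlyHenselianLocalRing A)
  {d : ℕ} (hd : ringKrullDim A = d) {U : Scheme.{u}} (j : U ⟶ Spec (CommRingCat.of A)) [IsOpenImmersion j]
  (hU : Set.range j = {closedPoint A}ᶜ) (n : ℕ) (hn : IsUnit (n : A))

include hd hU in
/-- The punctured spectrum of a regular local ring of positive dimension is irreducible. -/
theorem irreducibleSpace_of_regular (hd1 : 1 ≤ d) : IrreducibleSpace U := by
  have hdom : IsDomain A := CalgA.RegBasic.isDomain A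
  have hirr : IrreducibleSpace (Spec (CommRingCat.of A)) :=
    inferInstanceAs (IrreducibleSpace (PrimeSpectrum A))
  have hne : Nonempty U := by
    have h1 : (⊥ : PrimeSpectrum A) ≠ closedPoint A := by
      intro h
      have h2 : (⊥ : Ideal A) = maximalIdeal A := congrArg PrimeSpectrum.asIdeal h
      have h3 : IsField A := IsLocalRing.isField_iff_maximalIdeal_eq.2 h2.symm
      rw [ringKrullDim_eq_zero_of_isField h3] at hd
      have : d = 0 := by exact_mod_cast hd.symm
      omega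
    have h4 : (⊥ : PrimeSpectrum A) ∈ Set.range j := by
      rw [hU]; exact h1
    obtain ⟨y, -⟩ := h4
    exact ⟨y⟩
  have h1 : IsPreirreducible (Set.univ : Set U) :=
    (PreirreducibleSpace.isPreirreducible_univ (X := Spec (CommRingCat.of A))).preimage j.isOpenEmbedding
  exact { toPreirreducibleSpace := ⟨h1⟩, toNonempty := hne }

include hd hU in
/-- `H^0` of the punctured spectrum. -/
theorem nonempty_H0 (hd1 : 1 ≤ d) (M : Type) [AddCommGroup M] :
    Nonempty (EtCoh.H U (EtCoh.const U M) 0 ≃+ M) := by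
  have := irreducibleSpace_of_regular A hd j hU hd1
  exact Etrest.SHPoint.nonempty_H0_const U M

include hA hd hU hn in
/-- **Equal characteristic**: the cohomology of the punctured spectrum. -/
theorem punct_of_equalChar (hchar : ringChar A = ringChar (ResidueField A)) (q : ℕ) (hq : 1 ≤ q)
    (hqd : q + 1 ≠ 2 * d) : Subsingleton (EtCoh.H U (EtCoh.const U (ZMod n)) q) := by
  have hqc : QuasiCompact j := inferInstance
  exact punct_of_pure hA j hU (fun q hq => (PuncPure.pure_of_equalChar A hchar hd j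
    (fun x => by rw [hU]; rfl) n hn).1 q hq) q hq hqd

include hA hd hU hn in
/-- The top cohomology of the punctured spectrum. -/
theorem top_of_equalChar (hn0 : 0 < n) (hd1 : 1 ≤ d) (hchar : ringChar A = ringChar (ResidueField A)) :
    Nonempty (EtCoh.H U (EtCoh.const U (ZMod n)) (2 * d - 1) ≃+ ZMod n) :=
  top_of_pure hA j hU hn0 hn hd1 (PuncPure.pure_of_equalChar A hchar hd j
    (fun x => by rw [hU]; rfl) n hn).2

end EqualChar

end K152.PunctH
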