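import Groth.Agent.EtDual.K933.UDMap
import Groth.Agent.EtDual.K933.UDSes
import Groth.Agent.FibDesc.K781.Crit1
import Groth.Agent.EtDesc.K224.BigEx
import Groth.Agent.EtDesc.K224.Sec

/-!
# The complex of sections with support in the complement of an open subscheme

`e : Y₀ ⟶ Y` a monomorphism, `E e : Over Y ⥤ Over Y`, `V ↦ V ×_Y Y₀`.  For a complex `A` of presheaves on
`Over Y` which are injective as presheaves, `KF e A` is the kernel of `A ⟶ E^* A`, and
`0 ⟶ KF e A ⟶ A ⟶ E^* A ⟶ 0` is a short exact sequence of complexes of presheaves.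
-/

set_option autoImplicit false
set_option backward.isDefEq.respectTransparency false
set_option backward.isDefEq.respectTransparency.types false

universe w v u u' v'

open CategoryTheory CategoryTheory.Limits Opposite ComplexShape AlgebraicGeometry

noncomputable section

namespace K152.Fib

open K781.Desc K781.Cech K933.UnivDesc

section general

variable {C : Type u} [Category.{v} C] [HasPullbacks C] {Y₀ Y : C} (e : Y₀ ⟶ Y)

/-- `V ↦ V ×_Y Y₀`. -/
def E : Over Y ⥤ Over Y := Over.pullback e ⋙ Over.map e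

/-- The projection `V ×_Y Y₀ ⟶ V`. -/
def cou : E e ⟶ 𝟭 (Over Y) := (Over.mapPullbackAdj e).counit

theorem cou_left (V : Over Y) : ((cou e).app V).left = pullback.fst V.hom e := by
  simp [cou]

theorem E_obj_left (V : Over Y) : ((E e).obj V).left = pullback V.hom e := rfl

instance mono_cou [Mono e] (V : Over Y) : Mono ((cou e).app V) := by
  have h : Mono ((cou e).app V).left := by
    rw [cou_left]
    infer_instance
  exact Over.mono_of_mono_left _

instance preserves_map : PreservesLimitsOfShape WalkingCospan (Over.map e) := by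
  have h1 : PreservesLimitsOfShape WalkingCospan (Over.map e ⋙ Over.forget Y) := by
    have : Over.map e ⋙ Over.forget Y = Over.forget Y₀ := rfl
    rw [this]
    infer_instance
  exact preservesLimitsOfShape_of_reflects_of_preserves (Over.map e) (Over.forget Y)

instance preserves_E : PreservesLimitsOfShape WalkingCospan (E e) := by
  have : (Over.pullback e).IsRightAdjoint := (Over.mapPullbackAdj e).isRightAdjoint
  unfold E
  infer_instance

/-- Restriction of presheaves along `E`. -/
def resNat (V' : Type u') [Category.{v'} V'] : 𝟭 ((Over Y)ᵒᵖ ⥤ V') ⟶ (Functor.whiskeringLeft _ _ V').obj (E e).op where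
  app P :=
    { app := fun V => P.map ((cou e).app V.unop).op
      naturality := fun V W f => by
        change P.map f ≫ P.map ((cou e).app W.unop).op = P.map ((cou e).app V.unop).op ≫ P.map ((E e).map f.unop).op
        rw [← P.map_comp, ← P.map_comp, ← op_comp, (cou e).naturality f.unop]
        rfl }
  naturality P Q φ := by
    ext V
    exact (φ.naturality _).symm

/-- Restriction of complexes. -/
def resC (A : CochainComplex ((Over Y)ᵒᵖ ⥤ AddCommGrpCat.{w}) ℤ) : A ⟶ rs (E e).op A where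
  f i := (resNat e AddCommGrpCat.{w}).app (A.X i)
  comm' i j _ := ((resNat e AddCommGrpCat.{w}).naturality (A.d i j)).symm

theorem resC_app (A : CochainComplex ((Over Y)ᵒᵖ ⥤ AddCommGrpCat.{w}) ℤ) (i : ℤ) (V : Over Y) :
    ((resC e A).f i).app (op V) = (A.X i).map ((cou e).app V).op := rfl

/-- Sections with support outside `Y₀`. -/
def KF (A : CochainComplex ((Over Y)ᵒᵖ ⥤ AddCommGrpCat.{w}) ℤ) :
    CochainComplex ((Over Y)ᵒᵖ ⥤ AddCommGrpCat.{w}) ℤ := kernel (resC e A)

/-- `KF ⟶ A ⟶ E^* A`. -/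
def SK (A : CochainComplex ((Over Y)ᵒᵖ ⥤ AddCommGrpCat.{w}) ℤ) :
    ShortComplex (CochainComplex ((Over Y)ᵒᵖ ⥤ AddCommGrpCat.{w}) ℤ) :=
  ShortComplex.mk (kernel.ι (resC e A)) (resC e A) (kernel.condition _)

theorem SK_X₁ (A : CochainComplex ((Over Y)ᵒᵖ ⥤ AddCommGrpCat.{w}) ℤ) : (SK e A).X₁ = KF e A := rfl

theorem SK_X₂ (A : CochainComplex ((Over Y)ᵒᵖ ⥤ AddCommGrpCat.{w}) ℤ) : (SK e A).X₂ = A := rfl

theorem SK_X₃ (A : CochainComplex ((Over Y)ᵒᵖ ⥤ AddCommGrpCat.{w}) ℤ) : (SK e A).X₃ = rs (E e).op A := rfl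

variable {e}

/-- Objectwise surjectivity suffices. -/
theorem shortExact_SK_of_surjective {A : CochainComplex ((Over Y)ᵒᵖ ⥤ AddCommGrpCat.{w}) ℤ}
    (h : ∀ (i : ℤ) (V : Over Y), Function.Surjective ((A.X i).map ((cou e).app V).op)) :
    (SK e A).ShortExact := by
  have hepi : Epi (resC e A) := by
    have : ∀ i, Epi ((resC e A).f i) := by
      intro i
      have : ∀ V, Epi (((resC e A).f i).app V) := fun V =>
        (AddCommGrpCat.epi_iff_surjective _).2 (h i V.unop)
      exact NatTrans.epi_of_epi_app _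
    exact HomologicalComplex.epi_of_epi_f _ this
  exact { exact := ShortComplex.exact_kernel (resC e A)
          mono_f := inferInstanceAs (Mono (kernel.ι (resC e A)))
          epi_g := hepi }

theorem bb_KF {A : CochainComplex ((Over Y)ᵒᵖ ⥤ AddCommGrpCat.{w}) ℤ} (hA : BB A) : BB (KF e A) := by
  obtain ⟨a, ha⟩ := hA
  refine ⟨a, fun i hi => ?_⟩
  have h1 : Mono ((kernel.ι (resC e A)).f i) := inferInstance
  exact IsZero.of_mono ((kernel.ι (resC e A)).f i) (ha i hi)

theorem isZero_KF_X {A : CochainComplex ((Over Y)ᵒᵖ ⥤ AddCommGrpCat.{w}) ℤ} {i : ℤ} (h : IsZero (A.X i)) :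
    IsZero ((KF e A).X i) := by
  have h1 : Mono ((kernel.ι (resC e A)).f i) := inferInstance
  exact IsZero.of_mono ((kernel.ι (resC e A)).f i) h

/-- Universal descent for the complex with supports. -/
theorem ud_KF {A : CochainComplex ((Over Y)ᵒᵖ ⥤ AddCommGrpCat.{w}) ℤ} (hA : BB A) (hS : (SK e A).ShortExact)
    {X T : Over Y} {f : X ⟶ T} (h1 : UD A f) (h2 : UD A ((E e).map f)) : UD (KF e A) f :=
  UD.ses₁ hS (bb_KF hA) hA (bb_rs hA _) h1 (h2.map (E e))

/-- The values at `V`. -/
abbrev evK (V : Over Y) (A : CochainComplex ((Over Y)ᵒᵖ ⥤ AddCommGrpCat.{w}) ℤ) :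
    CochainComplex AddCommGrpCat.{w} ℤ :=
  (((evaluation (Over Y)ᵒᵖ AddCommGrpCat.{w}).obj (op V)).mapHomologicalComplex (up ℤ)).obj A

/-- The short exact sequence of values. -/
theorem shortExact_ev {A : CochainComplex ((Over Y)ᵒᵖ ⥤ AddCommGrpCat.{w}) ℤ} (hS : (SK e A).ShortExact) (V : Over Y) :
    ((SK e A).map (((evaluation (Over Y)ᵒᵖ AddCommGrpCat.{w}).obj (op V)).mapHomologicalComplex (up ℤ))).ShortExact := by
  apply HomologicalComplex.shortExact_of_degreewise_shortExact
  intro i
  exact (hS.map_of_exact (HomologicalComplex.eval _ (up ℤ) i)).map_of_exact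
    ((evaluation (Over Y)ᵒᵖ AddCommGrpCat.{w}).obj (op V))

/-- `H^(i+1)(KF(V)) ≅ H^i(A(V ×_Y Y₀))` when `H^i(A(V)) = 0 = H^(i+1)(A(V))`. -/
theorem nonempty_homology_KF {A : CochainComplex ((Over Y)ᵒᵖ ⥤ AddCommGrpCat.{w}) ℤ} (hS : (SK e A).ShortExact)
    (V : Over Y) (i j : ℤ) (hij : i + 1 = j) (h1 : IsZero ((evK V A).homology i))
    (h2 : IsZero ((evK V A).homology j)) :
    Nonempty ((evK ((E e).obj V) A).homology i ≅ (evK V (KF e A)).homology j) := by
  have hs := shortExact_ev hS V
  have : IsIso (hs.δ i j hij) := by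
    have hm : Mono (hs.δ i j hij) := by
      apply (hs.homology_exact₃ i j hij).mono_g
      exact h1.eq_of_src _ _
    have he : Epi (hs.δ i j hij) := by
      apply (hs.homology_exact₁ i j hij).epi_f
      exact h2.eq_of_tgt _ _
    exact isIso_of_mono_of_epi _
  exact ⟨asIso (hs.δ i j hij)⟩

end general

section sheaf

open K343.Basic K224.BigEx

attribute [local instance] isGrothendieckAbelian_AbK

variable {K : GrothendieckTopology Scheme.{u}} {Y₀ Y : Scheme.{u}} (e : Y₀ ⟶ Y)

/-- The complex of presheaves underlying a complex of sheaves. -/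
abbrev PC (I : CochainComplex (AbK K Y) ℤ) : CochainComplex ((Over Y)ᵒᵖ ⥤ AddCommGrpCat.{u + 1}) ℤ :=
  ((sheafToPresheaf (K.over Y) AddCommGrpCat.{u + 1}).mapHomologicalComplex (up ℤ)).obj I

theorem surjective_map_of_injective (P : (Over Y)ᵒᵖ ⥤ AddCommGrpCat.{u + 1}) (hP : Injective P) {V W : Over Y}
    (m : V ⟶ W) [Mono m] : Function.Surjective (P.map m.op) := by
  have : Epi (P.map m.op) := K781.Crit.epi_map_of_injective.{u, 0, u + 1} P m.op
  exact (AddCommGrpCat.epi_iff_surjective _).1 this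

theorem shortExact_SK [Mono e] (I : CochainComplex (AbK K Y) ℤ) (hI : ∀ i, Injective (I.X i)) :
    (SK e (PC I)).ShortExact :=
  shortExact_SK_of_surjective fun i V =>
    surjective_map_of_injective (I.X i).obj (injective_obj (I.X i) (hI i)) ((cou e).app V)

theorem bb_PC {I : CochainComplex (AbK K Y) ℤ} (hI : BB I) : BB (PC I) := by
  obtain ⟨a, ha⟩ := hI
  exact ⟨a, fun i hi => (sheafToPresheaf (K.over Y) AddCommGrpCat.{u + 1}).map_isZero (ha i hi)⟩

end sheaf

end K152.Fib
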