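import Groth.Agent.EtDual.K152.PuncPS
import Groth.Agent.EtDual.K375.TowerInf
import Groth.Agent.Etrest.IntHens

/-!
# The tower `R_∞` is strictly henselian; transport of weak punctual purity
-/

set_option autoImplicit false
universe u
open CategoryTheory CategoryTheory.Limits AlgebraicGeometry Opposite IsLocalRing

namespace K152.EndSh

open Groth.Agent Groth.Agent.Etbase Groth.Agent.EtDual.K375.Tower

section

variable {p : ℕ} [Fact p.Prime] {k : Type u} [Field k] [CharP k p] [PerfectRing k p] {d : ℕ}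
  {f : A p k d} (hf : f ∈ Ideal.span (Set.range (MvPowerSeries.X : Fin d → A p k d)))

include hf

theorem henselianLocalRing_Rm (m : ℕ) : HenselianLocalRing (Rm f m) := by
  have hr := isRegularLocalRing_Rm hf m
  have hc : IsAdicComplete (maximalIdeal (Rm f m)) (Rm f m) := isAdicComplete_Rm hf m
  have hh : HenselianRing (Rm f m) (maximalIdeal (Rm f m)) := inferInstance
  exact { is_henselian := fun g hg a₀ h1 h2 => hh.is_henselian g hg a₀ h1 (h2.map _) }

/-- `R_∞` is integral over `R_0`. -/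
theorem isIntegral_toInf : (toInf f 0).IsIntegral := by
  intro z
  obtain ⟨m, a, rfl⟩ := exists_toInf f z
  have h1 : (trLE f (Nat.zero_le m)).IsIntegral := (trLE_finite f (Nat.zero_le m)).to_isIntegral
  obtain ⟨P, hP, h2⟩ := h1 a
  refine ⟨P, hP, ?_⟩
  have h3 : toInf f 0 = (toInf f m).comp (trLE f (Nat.zero_le m)) :=
    RingHom.ext fun b => (toInf_trLE f (Nat.zero_le m) b).symm
  rw [h3, ← Polynomial.hom_eval₂, h2, map_zero]

theorem henselianLocalRing_Rinf : HenselianLocalRing (Rinf f) := by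
  have h0 := henselianLocalRing_Rm hf 0
  have h1 := isLocalRing_Rinf hf
  letI : Algebra (Rm f 0) (Rinf f) := (toInf f 0).toAlgebra
  have h2 : Algebra.IsIntegral (Rm f 0) (Rinf f) := ⟨isIntegral_toInf hf⟩
  exact Etrest.IntHens.henselianLocalRing_of_isIntegral (Rm f 0) (Rinf f)

theorem isSepClosed_Rinf [IsSepClosed k] [IsLocalRing (Rinf f)] : IsSepClosed (ResidueField (Rinf f)) := by
  let e : (Rinf f ⧸ RingHom.ker (resInf hf)) ≃+* k :=
    RingHom.quotientKerEquivOfSurjective (resInf_surjective hf)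
  let e' : ResidueField (Rinf f) ≃+* k :=
    (Ideal.quotEquivOfEq (maximalIdeal_Rinf_eq_ker hf)).trans e
  exact Groth.Agent.S18140.isSepClosed_of_ringEquiv e'.symm

theorem isStrictlyHenselian_Rinf [IsSepClosed k] : EtCoh.IsStrictlyHenselianLocalRing (Rinf f) :=
  have h := henselianLocalRing_Rinf hf
  ⟨h, isSepClosed_Rinf hf⟩

theorem zeroLocus_xInf [IsLocalRing (Rinf f)] :
    PrimeSpectrum.zeroLocus (Set.range (xInf f 0)) = {closedPoint (Rinf f)} := by
  rw [← PrimeSpectrum.zeroLocus_span, ← PrimeSpectrum.zeroLocus_radical, radical_span_xInf hf 0]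
  ext x
  constructor
  · intro hx
    exact PrimeSpectrum.ext (IsLocalRing.eq_maximalIdeal
      ((maximalIdeal.isMaximal _).eq_of_le x.isPrime.ne_top hx ▸ maximalIdeal.isMaximal _))
  · rintro rfl
    exact le_refl (maximalIdeal (Rinf f))

/-- Transport of weak punctual purity from the characteristic `p` side. -/
theorem puncWeakAt_of_equiv [IsSepClosed k] [IsLocalRing (Rinf f)] {S : Type u} [CommRing S]
    {φ : MvPowerSeries (Fin d) k →+* S} (h : RadInv.IsRad p φ) {U' : Scheme.{u}}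
    (j' : U' ⟶ Spec (CommRingCat.of S)) [IsOpenImmersion j']
    (hr : Set.range j' = (PrimeSpectrum.zeroLocus (Set.range fun i => φ (MvPowerSeries.X i)))ᶜ)
    {U : Scheme.{u}} (j : U ⟶ Spec (CommRingCat.of (Rinf f))) [IsOpenImmersion j]
    (hj : Set.range j = (PrimeSpectrum.zeroLocus (Set.range (xInf f 0)))ᶜ) (hd : 1 ≤ d) {n : ℕ} (hn0 : 0 < n)
    (hn : (n : k) ≠ 0) (heq : ∀ q : ℕ, 1 ≤ q →
      Nonempty (EtCoh.H U (EtCoh.const U (ZMod n)) q ≃+ EtCoh.H U' (EtCoh.const U' (ZMod n)) q)) :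
    K726.PuncWeakAt n (Rinf f) d := by
  have hne : NeZero n := ⟨hn0.ne'⟩
  have hiso : ∀ q : ℕ, Nonempty (EtCoh.H (FEt.puncturedSpec (Rinf f) : Scheme.{u})
      (EtCoh.const (FEt.puncturedSpec (Rinf f) : Scheme.{u}) (ZMod n)) q ≃+
      EtCoh.H U (EtCoh.const U (ZMod n)) q) := by
    intro q
    have hrange : Set.range j = Set.range (FEt.puncturedSpec (Rinf f)).ι := by
      rw [hj, zeroLocus_xInf hf, Scheme.Opens.range_ι]
      rfl
    let e : U ≅ (FEt.puncturedSpec (Rinf f) : Scheme.{u}) :=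
      IsOpenImmersion.isoOfRangeEq j (FEt.puncturedSpec (Rinf f)).ι hrange
    exact Sga4B.StalkLocal.nonempty_H_const_equiv e.hom (ZMod n) q
  refine ⟨fun q hq hqd => ?_, ?_, ?_⟩
  · obtain ⟨e1⟩ := hiso q
    obtain ⟨e2⟩ := heq q hq
    have := PuncPS.subsingleton_H h j' hr n hn q hq (by omega)
    exact (e1.trans e2).toEquiv.subsingleton
  · obtain ⟨e1⟩ := hiso (2 * d - 1)
    obtain ⟨e2⟩ := heq (2 * d - 1) (by omega)
    obtain ⟨e3⟩ := PuncPS.nonempty_H_top h j' hr n hn0 hn hd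
    exact Finite.of_equiv _ ((e1.trans e2).trans e3).symm.toEquiv
  · obtain ⟨e1⟩ := hiso (2 * d - 1)
    obtain ⟨e2⟩ := heq (2 * d - 1) (by omega)
    obtain ⟨e3⟩ := PuncPS.nonempty_H_top h j' hr n hn0 hn hd
    rw [Nat.card_congr ((e1.trans e2).trans e3).toEquiv, Nat.card_zmod]

end

end K152.EndSh
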