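import Groth.Agent.EtDual.K152.PuncPure
import Groth.Agent.EtDl.K555.RegDivTate
import Groth.Agent.EtDl.K555.RegMor
import Groth.Agent.Sga5x.H857.CompGen
import Groth.Agent.S4164
import Groth.Agent.S0067
import Groth.Agent.Sga4h.UlaDvr
import Groth.Agent.Sga4h.DivEq
import Mathlib.RingTheory.KrullDimension.Regular
import Mathlib.RingTheory.DiscreteValuationRing.Basic

/-!
# Punctual purity for strictly henselian regular local rings which are regular algebras over a discrete
valuation ring
-/

set_option autoImplicit false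
universe u

namespace K152.DvrAlg

open IsLocalRing TensorProduct Groth.Agent

/-- The closed fibre of a regular algebra over a discrete valuation ring. -/
theorem isRegularRing_quotient {V B : Type u} [CommRing V] [IsLocalRing V] [CommRing B] [Algebra V B]
    (h : CAlg.IsRegularHom V B) : IsRegularRing (B ⧸ (maximalIdeal V).map (algebraMap V B)) := by
  rw [CalgB.RegHom6.isRegularHom_iff] at h
  have h1 : Algebra.FiniteType V (ResidueField V) :=
    Algebra.FiniteType.of_surjective (Algebra.ofId V _) residue_surjective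
  have h2 : IsRegularRing (ResidueField V ⊗[V] B) := h.2 (ResidueField V) inferInstance
  have h3 : IsRegularRing ((V ⧸ maximalIdeal V) ⊗[V] B) := h2
  exact IsRegularRing.of_ringEquiv
    (Algebra.TensorProduct.quotIdealMapEquivQuotTensor B (maximalIdeal V)).toRingEquiv.symm

theorem main {V B : Type u} [CommRing V] [IsDomain V] [IsDiscreteValuationRing V] [CommRing B]
    [IsLocalRing B] [IsNoetherianRing B] [Algebra V B] [IsLocalHom (algebraMap V B)]
    (h : CAlg.IsRegularHom V B) (π : V) (hπ : Irreducible π) :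
    IsRegularLocalRing (B ⧸ Ideal.span {algebraMap V B π}) ∧
      ringKrullDim (B ⧸ Ideal.span {algebraMap V B π}) + 1 = ringKrullDim B ∧
      algebraMap V B π ∈ maximalIdeal B ∧
      ∃ f : ResidueField V →+* B ⧸ Ideal.span {algebraMap V B π},
        f.comp (residue V) = (Ideal.Quotient.mk _).comp (algebraMap V B) := by
  have hm : maximalIdeal V = Ideal.span {π} := hπ.maximalIdeal_eq
  have hmap : (maximalIdeal V).map (algebraMap V B) = Ideal.span {algebraMap V B π} := by
    rw [hm, Ideal.map_span, Set.image_singleton]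
  have hmem : algebraMap V B π ∈ maximalIdeal B := by
    have h1 : π ∈ maximalIdeal V := by rw [hm]; exact Ideal.mem_span_singleton_self π
    exact map_nonunit (algebraMap V B) π h1
  have hne : Ideal.span {algebraMap V B π} ≠ ⊤ := by
    intro h2
    have h3 := (Ideal.span_singleton_le_iff_mem (maximalIdeal B)).2 hmem
    rw [h2, top_le_iff] at h3
    exact (maximalIdeal.isMaximal B).ne_top h3
  have hnt : Nontrivial (B ⧸ Ideal.span {algebraMap V B π}) := Ideal.Quotient.nontrivial_iff.2 hne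
  have hl : IsLocalRing (B ⧸ Ideal.span {algebraMap V B π}) :=
    IsLocalRing.of_surjective' (Ideal.Quotient.mk _) Ideal.Quotient.mk_surjective
  have hr : IsRegularRing (B ⧸ Ideal.span {algebraMap V B π}) := by
    have := isRegularRing_quotient h
    exact IsRegularRing.of_ringEquiv (Ideal.quotEquivOfEq hmap)
  have hnzd : algebraMap V B π ∈ nonZeroDivisors B := by
    have hfl : Module.Flat V B := h.1
    have h1 : IsSMulRegular V π := fun a b hab => mul_left_cancel₀ hπ.ne_zero hab
    have h2 : IsSMulRegular B (algebraMap V B π) := h1.of_flat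
    rw [mem_nonZeroDivisors_iff_right]
    intro a ha
    apply h2
    change algebraMap V B π * a = algebraMap V B π * 0
    rw [mul_comm, ha, mul_zero]
  refine ⟨IsRegularLocalRing.of_isRegularRing_of_isLocalRing _, ?_, hmem, ?_⟩
  · exact ringKrullDim_quotient_span_singleton_succ_eq_ringKrullDim_of_mem_nonZeroDivisors hnzd hmem
  · let f : ResidueField V →+* B ⧸ Ideal.span {algebraMap V B π} :=
      Ideal.Quotient.lift (maximalIdeal V) ((Ideal.Quotient.mk _).comp (algebraMap V B)) fun a ha => by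
        have h1 := Ideal.mem_map_of_mem (algebraMap V B) ha
        rw [hmap] at h1
        exact Ideal.Quotient.eq_zero_iff_mem.2 h1
    exact ⟨f, RingHom.ext fun a => rfl⟩

theorem ringChar_eq {F S : Type*} [CommRing F] [IsSimpleRing F] [CommRing S] [Nontrivial S]
    (f : F →+* S) : ringChar S = ringChar F := by
  have h1 : CharP S (ringChar F) := charP_of_injective_ringHom f.injective _
  exact ringChar.eq_iff.2 h1

end K152.DvrAlg

open CategoryTheory CategoryTheory.Limits AlgebraicGeometry Opposite IsLocalRing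

namespace K152.DvrPure

open Groth.Agent Groth.Agent.Sga2lef.H101 Groth.Agent.Sga5

/-- The direct image of a constant sheaf from the closed point does not depend on the presentation of the
residue field. -/
theorem nonempty_push_residue {A F : Type u} [CommRing A] [IsLocalRing A] [Field F] (ρ : A →+* F)
    (hρ : Function.Surjective ρ) (M : Type) [AddCommGroup M] :
    Nonempty ((EtCoh.push (Spec.map (CommRingCat.ofHom ρ))).obj (EtCoh.const (Spec (CommRingCat.of F)) M) ≅
      (EtCoh.push (Spec.map (CommRingCat.ofHom (residue A)))).obj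
        (EtCoh.const (Spec (CommRingCat.of (ResidueField A))) M)) := by
  have hker : RingHom.ker ρ = maximalIdeal A :=
    eq_maximalIdeal (RingHom.ker_isMaximal_of_surjective ρ hρ)
  have hloc : IsLocalHom ρ := by
    refine ⟨fun a ha => ?_⟩
    by_contra hcon
    have h1 : a ∈ maximalIdeal A := hcon
    rw [← hker, RingHom.mem_ker] at h1
    rw [h1] at ha
    exact not_isUnit_zero ha
  let e : ResidueField A →+* F := ResidueField.lift ρ
  have he : e.comp (residue A) = ρ := RingHom.ext fun a => rfl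
  have hb : Function.Bijective e := by
    refine ⟨e.injective, fun y => ?_⟩
    obtain ⟨a, rfl⟩ := hρ y
    exact ⟨residue A a, rfl⟩
  have hi : IsIso (CommRingCat.ofHom e) := (ConcreteCategory.isIso_iff_bijective _).2 hb
  have hw : Spec.map (CommRingCat.ofHom ρ) =
      Spec.map (CommRingCat.ofHom e) ≫ Spec.map (CommRingCat.ofHom (residue A)) := by
    rw [← Spec.map_comp, ← CommRingCat.ofHom_comp, he]
  obtain ⟨e1⟩ := PuncPure.nonempty_push_const_iso (Spec.map (CommRingCat.ofHom e)) M
  rw [hw]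
  exact ⟨(EtCoh.pushComp (Spec.map (CommRingCat.ofHom (residue A)))
    (Spec.map (CommRingCat.ofHom e))).symm.app _ ≪≫
    ((EtCoh.push (Spec.map (CommRingCat.ofHom (residue A)))).mapIso e1).symm⟩

/-- Tate twists are trivial over a strictly henselian local ring. -/
theorem nonempty_tate_iso (B : Type u) [CommRing B] (hB : EtCoh.IsStrictlyHenselianLocalRing B) (n : ℕ)
    (hn0 : 0 < n) (hn : IsUnit (n : B)) {X : Scheme.{u}} (f : X ⟶ Spec (CommRingCat.of B)) (t : ℕ) :
    Nonempty (EtCoh.const X (ZMod n) ≅ EtDual.tate X n t) := by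
  obtain ⟨e⟩ := Groth.Agent.S14625.result B hB n hn0 hn X f
  exact Sga4h.TensorConst.nonempty_tate_iso_const n e.symm t

/-- Composition of purities over a strictly henselian local ring. -/
theorem comp_pure (B : Type u) [CommRing B] (hB : EtCoh.IsStrictlyHenselianLocalRing B) (n : ℕ)
    (hn0 : 0 < n) (hn : IsUnit (n : B)) {X Z Y UZ UY U' : Scheme.{u}} (f : X ⟶ Spec (CommRingCat.of B))
    (i₁ : Y ⟶ Z) (i₂ : Z ⟶ X) [IsClosedImmersion i₁] [IsClosedImmersion i₂] (jZ : UZ ⟶ X) (jY : UY ⟶ X)
    (j' : U' ⟶ Z) [IsOpenImmersion jZ] [IsOpenImmersion jY] [IsOpenImmersion j']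
    (hZ : Set.range jZ = (Set.range i₂)ᶜ) (hY : Set.range jY = (Set.range (i₁ ≫ i₂))ᶜ)
    (h' : Set.range j' = (Set.range i₁)ᶜ) (c d : ℕ)
    (hA0 : ∀ q, q ≠ 2 * c → IsZero ((EtDual.locCoh jZ q).obj (EtCoh.const X (ZMod n))))
    (hA1 : Nonempty ((EtDual.locCoh jZ (2 * c)).obj (EtDual.tate X n c) ≅
      (EtCoh.push i₂).obj (EtCoh.const Z (ZMod n))))
    (hB0 : ∀ q, q ≠ 2 * d → IsZero ((EtDual.locCoh j' q).obj (EtCoh.const Z (ZMod n))))
    (hB1 : Nonempty ((EtDual.locCoh j' (2 * d)).obj (EtDual.tate Z n d) ≅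
      (EtCoh.push i₁).obj (EtCoh.const Y (ZMod n)))) :
    (∀ q : ℕ, q ≠ 2 * (c + d) → IsZero ((EtDual.locCoh jY q).obj (EtCoh.const X (ZMod n)))) ∧
      Nonempty ((EtDual.locCoh jY (2 * (c + d))).obj (EtDual.tate X n (c + d)) ≅
        (EtCoh.push (i₁ ≫ i₂)).obj (EtCoh.const Y (ZMod n))) := by
  obtain ⟨a⟩ := hA1
  obtain ⟨b⟩ := hB1
  obtain ⟨t1⟩ := nonempty_tate_iso B hB n hn0 hn f c
  obtain ⟨t2⟩ := nonempty_tate_iso B hB n hn0 hn f (c + d)
  obtain ⟨t3⟩ := nonempty_tate_iso B hB n hn0 hn (i₂ ≫ f) d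
  obtain ⟨h1, h2⟩ := Sga5x.H857.CompGen.comp_key i₁ i₂ jZ jY j' hZ hY h' (EtCoh.const X (ZMod n)) (2 * c) hA0
  have hc : IsIso (EtCoh.pullPushAdj i₂).counit := by
    obtain ⟨h3, h4⟩ := Groth.Agent.S0067.result i₂
    infer_instance
  let e0 : (EtCoh.pull i₂).obj ((EtDual.locCoh jZ (2 * c)).obj (EtCoh.const X (ZMod n))) ≅
      EtCoh.const Z (ZMod n) :=
    (EtCoh.pull i₂).mapIso ((EtDual.locCoh jZ (2 * c)).mapIso t1 ≪≫ a) ≪≫
      asIso ((EtCoh.pullPushAdj i₂).counit.app (EtCoh.const Z (ZMod n)))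
  have key : ∀ q, Nonempty ((EtDual.locCoh jY (2 * c + q)).obj (EtCoh.const X (ZMod n)) ≅
      (EtCoh.push i₂).obj ((EtDual.locCoh j' q).obj (EtCoh.const Z (ZMod n)))) := by
    intro q
    obtain ⟨e⟩ := h1 q
    exact ⟨e ≪≫ (EtCoh.push i₂).mapIso ((EtDual.locCoh j' q).mapIso e0)⟩
  refine ⟨fun q hq => ?_, ?_⟩
  · rcases lt_or_ge q (2 * c) with hlt | hge
    · exact h2 q hlt
    · obtain ⟨r, rfl⟩ := Nat.exists_eq_add_of_le hge
      obtain ⟨e⟩ := key r
      exact ((EtCoh.push i₂).map_isZero (hB0 r (by omega))).of_iso e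
  · obtain ⟨e⟩ := key (2 * d)
    have hcd : 2 * (c + d) = 2 * c + 2 * d := by ring
    rw [hcd]
    exact ⟨(EtDual.locCoh jY (2 * c + 2 * d)).mapIso t2.symm ≪≫ e ≪≫
      (EtCoh.push i₂).mapIso ((EtDual.locCoh j' (2 * d)).mapIso t3 ≪≫ b) ≪≫
      (EtCoh.pushComp i₂ i₁).app (EtCoh.const Y (ZMod n))⟩

theorem range_spec_residue {A F : Type u} [CommRing A] [IsLocalRing A] [Field F] (ρ : A →+* F)
    (hρ : Function.Surjective ρ) : Set.range (Spec.map (CommRingCat.ofHom ρ)) = {closedPoint A} := by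
  have hker : RingHom.ker ρ = maximalIdeal A :=
    eq_maximalIdeal (RingHom.ker_isMaximal_of_surjective ρ hρ)
  ext x
  constructor
  · rintro ⟨y, rfl⟩
    refine PrimeSpectrum.ext ?_
    change (y : PrimeSpectrum F).asIdeal.comap ρ = maximalIdeal A
    rw [← hker]
    have h1 : (y : PrimeSpectrum F).asIdeal = ⊥ := Ideal.eq_bot_of_prime _
    rw [h1]
    rfl
  · intro hx
    refine ⟨(⊥ : PrimeSpectrum F), ?_⟩
    rw [Set.mem_singleton_iff.1 hx]
    refine PrimeSpectrum.ext ?_
    change (⊥ : Ideal F).comap ρ = maximalIdeal A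
    rw [← hker]
    rfl

/-- Purity for the closed point of the spectrum of a discrete valuation ring. -/
theorem dvr_pure (V : Type u) [CommRing V] [IsDomain V] [IsDiscreteValuationRing V] (n : ℕ) [NeZero n]
    (hn : IsUnit (n : V)) {U : Scheme.{u}} (j : U ⟶ Spec (CommRingCat.of V)) [IsOpenImmersion j]
    (hU : Set.range j = (Set.range (Spec.map (CommRingCat.ofHom (residue V))))ᶜ) :
    (∀ q, q ≠ 2 → IsZero ((EtDual.locCoh j q).obj (EtCoh.const (Spec (CommRingCat.of V)) (ZMod n)))) ∧
      Nonempty ((EtDual.locCoh j 2).obj (EtCoh.mu (Spec (CommRingCat.of V)) n) ≅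
        (EtCoh.push (Spec.map (CommRingCat.ofHom (residue V)))).obj
          (EtCoh.const (Spec (CommRingCat.of (ResidueField V))) (ZMod n))) := by
  have hr := range_spec_residue (residue V) residue_surjective
  have hci : IsClosedImmersion (Spec.map (CommRingCat.ofHom (residue V))) :=
    IsClosedImmersion.spec_of_surjective _ residue_surjective
  have hreg : ∀ x : Spec (CommRingCat.of V), IsRegularLocalRing ((Spec (CommRingCat.of V)).presheaf.stalk x) :=
    fun x => (Sga4h.UlaDvr.regular_spec_pid V x).1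
  have hdim : ∀ x : Spec (CommRingCat.of V), ringKrullDim ((Spec (CommRingCat.of V)).presheaf.stalk x) ≤ 1 :=
    fun x => (Sga4h.UlaDvr.regular_spec_pid V x).2
  have hcp : ∀ x : Spec (CommRingCat.of V), x = closedPoint V →
      ringKrullDim ((Spec (CommRingCat.of V)).presheaf.stalk x) = 1 := by
    rintro x rfl
    rw [Sga4h.DivEq.ringKrullDim_stalk,
      IsLocalization.AtPrime.ringKrullDim_eq_height (closedPoint V).asIdeal]
    change (((maximalIdeal V).height : ℕ∞) : WithBot ℕ∞) = 1
    rw [IsLocalRing.maximalIdeal_height_eq_ringKrullDim]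
    exact IsPrincipalIdealRing.ringKrullDim_eq_one V (IsDiscreteValuationRing.not_isField V)
  have hnS : IsUnit (n : Γ(Spec (CommRingCat.of V), ⊤)) := by
    have h3 := hn.map (Scheme.ΓSpecIso (CommRingCat.of V)).inv.hom
    rwa [map_natCast] at h3
  refine ⟨fun q hq => ?_, ?_⟩
  · refine Groth.Agent.S4164.result n hreg hdim hnS j (fun x hx => hcp x ?_) q hq
    have h1 : x ∉ Set.range j := hx
    rw [hU, Set.notMem_compl_iff, hr] at h1
    exact h1
  · have hDreg : ∀ y : Spec (CommRingCat.of (ResidueField V)),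
        IsRegularLocalRing ((Spec (CommRingCat.of (ResidueField V))).presheaf.stalk y) :=
      fun y => (Sga4h.UlaDvr.regular_spec_pid (ResidueField V) y).1
    refine K555.RegDivTate.nonempty_locCoh hreg n hnS (Spec.map (CommRingCat.ofHom (residue V))) hDreg
      (fun y => ?_) j hU
    have h1 : Spec.map (CommRingCat.ofHom (residue V)) y = closedPoint V := by
      have : Spec.map (CommRingCat.ofHom (residue V)) y ∈
        Set.range (Spec.map (CommRingCat.ofHom (residue V))) := ⟨y, rfl⟩
      rw [hr] at this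
      exact this
    rw [hcp _ h1, Sga4h.DivEq.ringKrullDim_stalk,
      IsLocalization.AtPrime.ringKrullDim_eq_height (y : PrimeSpectrum (ResidueField V)).asIdeal]
    have h2 : (y : PrimeSpectrum (ResidueField V)).asIdeal = ⊥ := Ideal.eq_bot_of_prime _
    rw [h2]
    simp

/-- Punctual purity for a strictly henselian regular local ring which is regular over a discrete valuation
ring. -/
theorem main (V : Type u) [CommRing V] [IsDomain V] [IsDiscreteValuationRing V] (B : Type u) [CommRing B]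
    [IsRegularLocalRing B] (hB : EtCoh.IsStrictlyHenselianLocalRing B) [Algebra V B]
    [IsLocalHom (algebraMap V B)] (hreg : CAlg.IsRegularHom V B) (n : ℕ) (hn0 : 0 < n)
    (hn : IsUnit (n : V)) {d : ℕ} (hd : ringKrullDim B = d)
    {U : Scheme.{u}} (j : U ⟶ Spec (CommRingCat.of B)) [IsOpenImmersion j]
    (hU : ∀ x : PrimeSpectrum B, x ∈ Set.range j.base ↔ x ≠ closedPoint B) :
    (∀ q : ℕ, q ≠ 2 * d → IsZero ((EtDual.locCoh j q).obj (EtCoh.const (Spec (CommRingCat.of B)) (ZMod n)))) ∧
      Nonempty ((EtDual.locCoh j (2 * d)).obj (EtDual.tate (Spec (CommRingCat.of B)) n d) ≅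
        (EtCoh.push (Spec.map (CommRingCat.ofHom (residue B)))).obj
          (EtCoh.const (Spec (CommRingCat.of (ResidueField B))) (ZMod n))) := by
  have hne : NeZero n := ⟨hn0.ne'⟩
  obtain ⟨π, hπ⟩ := IsDiscreteValuationRing.exists_irreducible V
  obtain ⟨hC, hdim, hmem, ψ, hψ⟩ := DvrAlg.main hreg π hπ
  let C := B ⧸ Ideal.span {algebraMap V B π}
  have hnB : IsUnit (n : B) := by
    have := hn.map (algebraMap V B)
    rwa [map_natCast] at this
  have hnC : IsUnit (n : C) := by
    have := hnB.map (Ideal.Quotient.mk (Ideal.span {algebraMap V B π}))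
    rwa [map_natCast] at this
  have hcharC : ringChar C = ringChar (ResidueField C) := by
    rw [DvrAlg.ringChar_eq ψ, DvrAlg.ringChar_eq ((residue C).comp ψ)]
  obtain ⟨e, he⟩ : ∃ e : ℕ, ringKrullDim C = e :=
    ⟨_, (IsRegularLocalRing.spanFinrank_maximalIdeal (R := C)).symm⟩
  have hde : d = 1 + e := by
    have h1 : ringKrullDim C + 1 = ringKrullDim B := hdim
    rw [he, hd] at h1
    have h2 : ((e + 1 : ℕ) : WithBot ℕ∞) = (d : ℕ) := by
      rw [← h1]; norm_cast
    have h3 : e + 1 = d := by exact_mod_cast h2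
    omega
  let i₂ : Spec (CommRingCat.of C) ⟶ Spec (CommRingCat.of B) :=
    Spec.map (CommRingCat.ofHom (Ideal.Quotient.mk (Ideal.span {algebraMap V B π})))
  let i₁ : Spec (CommRingCat.of (ResidueField C)) ⟶ Spec (CommRingCat.of C) :=
    Spec.map (CommRingCat.ofHom (residue C))
  have hi₂ : IsClosedImmersion i₂ := IsClosedImmersion.spec_of_surjective _ Ideal.Quotient.mk_surjective
  have hi₁ : IsClosedImmersion i₁ := IsClosedImmersion.spec_of_surjective _ residue_surjective
  let g : Spec (CommRingCat.of B) ⟶ Spec (CommRingCat.of V) :=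
    Spec.map (CommRingCat.ofHom (algebraMap V B))
  let W : (Spec (CommRingCat.of V)).Opens := PrimeSpectrum.basicOpen π
  have hπm : π ∈ maximalIdeal V := by
    rw [hπ.maximalIdeal_eq]; exact Ideal.mem_span_singleton_self π
  have hW : Set.range W.ι = (Set.range (Spec.map (CommRingCat.ofHom (residue V))))ᶜ := by
    rw [range_spec_residue (residue V) residue_surjective, Scheme.Opens.range_ι]
    ext x
    change ¬ (π ∈ (x : PrimeSpectrum V).asIdeal) ↔ ¬ (x = closedPoint V)
    rw [not_iff_not]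
    constructor
    · intro h
      refine PrimeSpectrum.ext (eq_maximalIdeal ?_)
      refine ((x : PrimeSpectrum V).isPrime.isMaximal ?_)
      intro h0
      rw [h0] at h
      exact hπ.ne_zero h
    · rintro rfl
      exact hπm
  obtain ⟨v0, ⟨v1⟩⟩ := dvr_pure V n hn W.ι hW
  have sq : IsPullback (g ∣_ W) (g ⁻¹ᵁ W).ι W.ι g := isPullback_morphismRestrict _ _
  have hnS : IsUnit (n : Γ(Spec (CommRingCat.of V), ⊤)) := by
    have h3 := hn.map (Scheme.ΓSpecIso (CommRingCat.of V)).inv.hom
    rwa [map_natCast] at h3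
  have halg : (algebraMap V B).toAlgebra = (inferInstance : Algebra V B) := by
    exact Algebra.algebra_ext _ _ fun r => rfl
  have hbc : EtpbcB.BCU.BCMor (Spec (CommRingCat.of V)) g := by
    refine (K555.RegMor.ubc_of_isRegularHom (algebraMap V B) ?_ (𝟙 _)).bcMor
    rw [halg]
    exact hreg
  have hZ : Set.range (g ⁻¹ᵁ W).ι = (Set.range i₂)ᶜ := by
    rw [Scheme.Opens.range_ι]
    have h1 : Set.range i₂ = PrimeSpectrum.zeroLocus
        (RingHom.ker (Ideal.Quotient.mk (Ideal.span {algebraMap V B π})) : Set B) :=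
      range_comap_of_surjective _ _ Ideal.Quotient.mk_surjective
    rw [h1, Ideal.mk_ker, PrimeSpectrum.zeroLocus_span]
    ext x
    change ¬ (algebraMap V B π ∈ (x : PrimeSpectrum B).asIdeal) ↔
      ¬ (({algebraMap V B π} : Set B) ⊆ (x : PrimeSpectrum B).asIdeal)
    rw [Set.singleton_subset_iff]
    rfl
  have hρ : Function.Surjective ((residue C).comp (Ideal.Quotient.mk (Ideal.span {algebraMap V B π}))) :=
    residue_surjective.comp Ideal.Quotient.mk_surjective
  have hi : i₁ ≫ i₂ = Spec.map (CommRingCat.ofHom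
      ((residue C).comp (Ideal.Quotient.mk (Ideal.span {algebraMap V B π})))) := by
    rw [CommRingCat.ofHom_comp, Spec.map_comp]
  have hY : Set.range j = (Set.range (i₁ ≫ i₂))ᶜ := by
    rw [hi, range_spec_residue _ hρ]
    ext x
    exact hU x
  have hY' : Set.range (FEt.puncturedSpec C).ι = (Set.range i₁)ᶜ := by
    rw [range_spec_residue (residue C) residue_surjective, Scheme.Opens.range_ι]
    rfl
  obtain ⟨b0, b1⟩ := PuncPure.pure_of_equalChar C hcharC he (FEt.puncturedSpec C).ι (fun x => by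
    have h1 : Set.range (FEt.puncturedSpec C).ι = (Set.range i₁)ᶜ := hY'
    change x ∈ Set.range (FEt.puncturedSpec C).ι ↔ _
    rw [h1, range_spec_residue (residue C) residue_surjective]
    rfl) n hnC
  have a0 : ∀ q, q ≠ 2 * 1 → IsZero ((EtDual.locCoh (g ⁻¹ᵁ W).ι q).obj
      (EtCoh.const (Spec (CommRingCat.of B)) (ZMod n))) := by
    intro q hq
    have h1 := LocCohBC.isZero_locCoh_pull hbc sq (EtCoh.const (Spec (CommRingCat.of V)) (ZMod n))
      (Sga4h.FinBC.isTorsionInvertibleOn_of_killedBy hnS (H848.TateTwist.killedBy_tate 0)) q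
      (v0 q (by omega))
    exact h1.of_iso ((EtDual.locCoh (g ⁻¹ᵁ W).ι q).mapIso (EtCore.pullConst g (ZMod n)).symm)
  have a1 : Nonempty ((EtDual.locCoh (g ⁻¹ᵁ W).ι (2 * 1)).obj
      (EtDual.tate (Spec (CommRingCat.of B)) n 1) ≅
      (EtCoh.push i₂).obj (EtCoh.const (Spec (CommRingCat.of C)) (ZMod n))) := by
    obtain ⟨t1⟩ := H848.TateTwist.nonempty_tate_one (X := Spec (CommRingCat.of V)) (n := n)
    obtain ⟨-, ⟨t2⟩⟩ := H848.TateTwist.nonempty_pull_tate g hnS 1
    obtain ⟨t3⟩ := LocCohBC.nonempty_pull_locCoh_iso hbc sq (EtDual.tate (Spec (CommRingCat.of V)) n 1)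
      (Sga4h.FinBC.isTorsionInvertibleOn_of_killedBy hnS (H848.TateTwist.killedBy_tate 1)) 2
    have sq2 : IsPullback (Spec.map (CommRingCat.ofHom ψ)) i₂
        (Spec.map (CommRingCat.ofHom (residue V))) g := by
      refine PuncPure.isPullback_of_surjective (residue V) (algebraMap V B)
        (Ideal.Quotient.mk (Ideal.span {algebraMap V B π})) ψ residue_surjective
        Ideal.Quotient.mk_surjective hψ ?_
      rw [Ideal.mk_ker, ker_residue, hπ.maximalIdeal_eq, Ideal.map_span, Set.image_singleton]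
    have hci : IsClosedImmersion (Spec.map (CommRingCat.ofHom (residue V))) :=
      IsClosedImmersion.spec_of_surjective _ residue_surjective
    obtain ⟨t4⟩ := PuncPure.nonempty_pull_push_const sq2 (ZMod n)
    exact ⟨(EtDual.locCoh (g ⁻¹ᵁ W).ι 2).mapIso t2.symm ≪≫ t3.symm ≪≫
      (EtCoh.pull g).mapIso ((EtDual.locCoh W.ι 2).mapIso t1 ≪≫ v1) ≪≫ t4⟩
  obtain ⟨r0, ⟨r1⟩⟩ := comp_pure B hB n hn0 hnB (𝟙 _) i₁ i₂ (g ⁻¹ᵁ W).ι j (FEt.puncturedSpec C).ι hZ hY hY'
    1 e a0 a1 b0 b1
  obtain ⟨s⟩ := nonempty_push_residue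
    ((residue C).comp (Ideal.Quotient.mk (Ideal.span {algebraMap V B π}))) hρ (ZMod n)
  subst hde
  rw [hi] at r1
  exact ⟨r0, ⟨r1 ≪≫ s⟩⟩

end K152.DvrPure
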