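import Groth.Agent.EtDual.K152.RadInv
import Groth.Agent.S18140
import Groth.Agent.Ega4A.PowReg

/-!
# The punctured spectrum of the perfection of `k[[X_1, …, X_d]]`

`k` separably closed of characteristic `p`, `φ : k[[X_1, …, X_d]] →+* S` radicial (for instance the
perfection), `U' ⟶ Spec S` an open immersion onto the complement of `V(φ X_1, …, φ X_d)`:
`H^q(U', ℤ/n) = 0` for `q ≥ 1`, `q ≠ 2d - 1`, and `H^{2d-1}(U', ℤ/n) ≅ ℤ/n`.
-/

set_option autoImplicit false
universe u
open CategoryTheory CategoryTheory.Limits AlgebraicGeometry Opposite IsLocalRing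

namespace K152.PuncPS

open Groth.Agent Groth.Agent.Etbase Groth.Agent.Sga5

section

variable (k : Type u) [Field k] [IsSepClosed k] (d : ℕ)

theorem isStrictlyHenselian : EtCoh.IsStrictlyHenselianLocalRing (MvPowerSeries (Fin d) k) := by
  have h1 : IsAdicComplete (maximalIdeal k) k := by
    rw [IsLocalRing.maximalIdeal_eq_bot]
    infer_instance
  exact Groth.Agent.S18140.isStrictlyHenselian k (Etrest.SHPoint.isSepClosed_residueField k) d

instance isRegularLocalRing : IsRegularLocalRing (MvPowerSeries (Fin d) k) :=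
  Ega4A.PowReg.isRegularLocalRing_mvPowerSeries_of_isField_or_isCohenRing (Or.inl (Field.toIsField k)) d

theorem ringKrullDim_eq : ringKrullDim (MvPowerSeries (Fin d) k) = d := by
  rw [CalgB.PowSerMap.ringKrullDim_mvPowerSeries, ringKrullDim_eq_zero_of_field, zero_add]

theorem maximalIdeal_eq_span : maximalIdeal (MvPowerSeries (Fin d) k) =
    Ideal.span (Set.range (MvPowerSeries.X : Fin d → MvPowerSeries (Fin d) k)) := by
  rw [CalgB.PowSerMap.maximalIdeal_eq, IsLocalRing.maximalIdeal_eq_bot, Ideal.map_bot, bot_sup_eq]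

theorem zeroLocus_X : PrimeSpectrum.zeroLocus
    (Set.range (MvPowerSeries.X : Fin d → MvPowerSeries (Fin d) k)) =
      {closedPoint (MvPowerSeries (Fin d) k)} := by
  rw [← PrimeSpectrum.zeroLocus_span, ← maximalIdeal_eq_span]
  ext x
  constructor
  · intro hx
    exact PrimeSpectrum.ext (IsLocalRing.eq_maximalIdeal
      ((maximalIdeal.isMaximal _).eq_of_le x.isPrime.ne_top hx ▸ maximalIdeal.isMaximal _))
  · rintro rfl
    exact le_refl (maximalIdeal (MvPowerSeries (Fin d) k))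

theorem ringChar_eq : ringChar (MvPowerSeries (Fin d) k) =
    ringChar (ResidueField (MvPowerSeries (Fin d) k)) := by
  rw [DvrAlg.ringChar_eq (algebraMap k (MvPowerSeries (Fin d) k)),
    DvrAlg.ringChar_eq ((residue (MvPowerSeries (Fin d) k)).comp (algebraMap k (MvPowerSeries (Fin d) k)))]

end

section

variable {k : Type u} [Field k] [IsSepClosed k] {d : ℕ} {S : Type u} [CommRing S] {p : ℕ} [Fact p.Prime]
  {φ : MvPowerSeries (Fin d) k →+* S} (h : RadInv.IsRad p φ) {U' : Scheme.{u}}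
  (j' : U' ⟶ Spec (CommRingCat.of S)) [IsOpenImmersion j']
  (hr : Set.range j' = (PrimeSpectrum.zeroLocus (Set.range fun i => φ (MvPowerSeries.X i)))ᶜ)

include hr in
theorem range_eq : Set.range j' = (Spec.map (CommRingCat.ofHom φ)) ⁻¹'
    Set.range (FEt.puncturedSpec (MvPowerSeries (Fin d) k)).ι := by
  have h1 : Set.range (FEt.puncturedSpec (MvPowerSeries (Fin d) k)).ι =
      {closedPoint (MvPowerSeries (Fin d) k)}ᶜ := by
    rw [Scheme.Opens.range_ι]; rfl
  have h2 := PrimeSpectrum.preimage_comap_zeroLocus φ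
    (Set.range (MvPowerSeries.X : Fin d → MvPowerSeries (Fin d) k))
  rw [← Set.range_comp, zeroLocus_X] at h2
  rw [hr, h1]
  exact congrArg compl h2.symm

include h hr

theorem nonempty_equiv (M : Type) [AddCommGroup M] (q : ℕ) :
    Nonempty (EtCoh.H (FEt.puncturedSpec (MvPowerSeries (Fin d) k) : Scheme.{u})
      (EtCoh.const (FEt.puncturedSpec (MvPowerSeries (Fin d) k) : Scheme.{u}) M) q ≃+
      EtCoh.H U' (EtCoh.const U' M) q) :=
  RadInv.nonempty_H_equiv h (FEt.puncturedSpec (MvPowerSeries (Fin d) k)).ι j' (range_eq j' hr) M q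

theorem subsingleton_H (n : ℕ) (hn : (n : k) ≠ 0) (q : ℕ) (hq : 1 ≤ q) (hqd : q + 1 ≠ 2 * d) :
    Subsingleton (EtCoh.H U' (EtCoh.const U' (ZMod n)) q) := by
  obtain ⟨e⟩ := nonempty_equiv h j' hr (ZMod n) q
  have hnA : IsUnit (n : MvPowerSeries (Fin d) k) := by
    have := (Ne.isUnit hn).map (algebraMap k (MvPowerSeries (Fin d) k))
    rwa [map_natCast] at this
  have := PunctH.punct_of_equalChar (MvPowerSeries (Fin d) k) (isStrictlyHenselian k d)
    (ringKrullDim_eq k d) (FEt.puncturedSpec (MvPowerSeries (Fin d) k)).ι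
    (by rw [Scheme.Opens.range_ι]; rfl) n hnA (ringChar_eq k d) q hq hqd
  exact e.symm.toEquiv.subsingleton

theorem nonempty_H_top (n : ℕ) (hn0 : 0 < n) (hn : (n : k) ≠ 0) (hd : 1 ≤ d) :
    Nonempty (EtCoh.H U' (EtCoh.const U' (ZMod n)) (2 * d - 1) ≃+ ZMod n) := by
  obtain ⟨e⟩ := nonempty_equiv h j' hr (ZMod n) (2 * d - 1)
  have hnA : IsUnit (n : MvPowerSeries (Fin d) k) := by
    have := (Ne.isUnit hn).map (algebraMap k (MvPowerSeries (Fin d) k))
    rwa [map_natCast] at this
  obtain ⟨e'⟩ := PunctH.top_of_equalChar (MvPowerSeries (Fin d) k) (isStrictlyHenselian k d)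
    (ringKrullDim_eq k d) (FEt.puncturedSpec (MvPowerSeries (Fin d) k)).ι
    (by rw [Scheme.Opens.range_ι]; rfl) n hnA hn0 hd (ringChar_eq k d)
  exact ⟨e.symm.trans e'⟩

theorem nonempty_H_zero (hd : 1 ≤ d) (M : Type) [AddCommGroup M] :
    Nonempty (EtCoh.H U' (EtCoh.const U' M) 0 ≃+ M) := by
  obtain ⟨e⟩ := nonempty_equiv h j' hr M 0
  obtain ⟨e'⟩ := PunctH.nonempty_H0 (MvPowerSeries (Fin d) k)
    (ringKrullDim_eq k d) (FEt.puncturedSpec (MvPowerSeries (Fin d) k)).ι
    (by rw [Scheme.Opens.range_ι]; rfl) hd M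
  exact ⟨e.symm.trans e'⟩

end

/-- The perfection is radicial. -/
theorem isRad_of_isPRadical {p : ℕ} [Fact p.Prime] {A S : Type u} [CommRing A] [CommRing S]
    (φ : A →+* S) (h0 : (p : A) = 0) (h : IsPRadical φ p) : RadInv.IsRad p φ where
  zero := h0
  pow s := IsPRadical.pow_mem φ p s
  ker a ha := mem_nilradical.1 (pNilradical_le_nilradical (IsPRadical.ker_le φ p ha))

/-- Weak punctual purity in equal characteristic. -/
theorem puncWeakAt_of_equalChar (A : Type u) [CommRing A] [IsRegularLocalRing A]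
    (hA : EtCoh.IsStrictlyHenselianLocalRing A) (hchar : ringChar A = ringChar (ResidueField A))
    {n : ℕ} (hn0 : 0 < n) (hn : IsUnit (n : A)) {d : ℕ} (hd : ringKrullDim A = d) (hd1 : 1 ≤ d) :
    K726.PuncWeakAt n A d := by
  have hne : NeZero n := ⟨hn0.ne'⟩
  have hU : Set.range (FEt.puncturedSpec A).ι = {closedPoint A}ᶜ := by
    rw [Scheme.Opens.range_ι]; rfl
  obtain ⟨e⟩ := PunctH.top_of_equalChar A hA hd (FEt.puncturedSpec A).ι hU n hn hn0 hd1 hchar
  refine ⟨fun q hq hqd => PunctH.punct_of_equalChar A hA hd (FEt.puncturedSpec A).ι hU n hn hchar q hq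
    (by omega), Finite.of_equiv _ e.symm.toEquiv, ?_⟩
  rw [Nat.card_congr e.toEquiv, Nat.card_zmod]

end K152.PuncPS
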