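import Groth.Agent.Etbase.AsFin
import Groth.Agent.Etbase.EtSite
import Groth.Agent.Dix.EtaleSieve
import Mathlib.RingTheory.Flat.Basic

/-!
# The étale sheaf attached to an algebra

For an `R`-algebra `A`, `E R A` is the étale sheaf `V ↦ Γ(V ×_R A, 𝒪)` on `Spec R`; it is functorial in `A`
(`resE`), carries multiplications (`mulE`) and, if `p = 0`, the Frobenius (`frobE`).  If `a ∈ A` is a
nonzerodivisor, `0 ⟶ E A ⟶ E A ⟶ E (A/a) ⟶ 0` is exact.
-/

set_option autoImplicit false
universe u
open CategoryTheory CategoryTheory.Limits AlgebraicGeometry Opposite TensorProduct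

namespace K152.AffPush

open Groth.Agent.Etbase.AsFin Groth.Agent.CurvesA.ArtinSchreier

section general

set_option backward.isDefEq.respectTransparency.types false

variable {X Z Z' : Scheme.{u}} (i : Z ⟶ X) (i' : Z' ⟶ X) (k : Z' ⟶ Z) (hk : k ≫ i = i')

/-- `V ×_X Z' ⟶ V ×_X Z`. -/
noncomputable def bcMap (V : X.Etale) : ((EtCoh.bc i').obj V).left ⟶ ((EtCoh.bc i).obj V).left :=
  pullback.lift (pullback.fst V.hom i') (pullback.snd V.hom i' ≫ k) (by
    exact (pullback.condition (f := V.hom) (g := i')).trans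
      ((congrArg (fun t => pullback.snd V.hom i' ≫ t) hk).symm.trans (Category.assoc _ _ _).symm))

theorem bcMap_fst (V : X.Etale) : bcMap i i' k hk V ≫ pullback.fst V.hom i = pullback.fst V.hom i' :=
  pullback.lift_fst _ _ _

theorem bcMap_snd (V : X.Etale) : bcMap i i' k hk V ≫ pullback.snd V.hom i = pullback.snd V.hom i' ≫ k :=
  pullback.lift_snd _ _ _

theorem bc_map_fst {V W : X.Etale} (g : V ⟶ W) :
    ((EtCoh.bc i).map g).left ≫ pullback.fst W.hom i = pullback.fst V.hom i ≫ g.left := by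
  dsimp [EtCoh.bc]
  exact pullback.lift_fst _ _ _

theorem bc_map_snd {V W : X.Etale} (g : V ⟶ W) :
    ((EtCoh.bc i).map g).left ≫ pullback.snd W.hom i = pullback.snd V.hom i := by
  dsimp [EtCoh.bc]
  exact pullback.lift_snd _ _ _

theorem sq_aux {C : Type*} [Category C] {a b c d x y x' : C} (β : a ⟶ b) (m : b ⟶ c) (m' : a ⟶ d) (β' : d ⟶ c)
    (f : c ⟶ x) (f₁ : b ⟶ y) (g : y ⟶ x) (f₂ : d ⟶ x') (t : x' ⟶ x) (f₃ : a ⟶ y) (h1 : m ≫ f = f₁ ≫ g) (h2 : β ≫ f₁ = f₃)
    (h3 : β' ≫ f = f₂ ≫ t) (h4 : m' ≫ f₂ ≫ t = f₃ ≫ g) : (β ≫ m) ≫ f = (m' ≫ β') ≫ f := by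
  rw [Category.assoc, Category.assoc, h1, h3, h4, reassoc_of% h2]

theorem bcMap_naturality {V W : X.Etale} (g : V ⟶ W) :
    bcMap i i' k hk V ≫ ((EtCoh.bc i).map g).left = ((EtCoh.bc i').map g).left ≫ bcMap i i' k hk W := by
  apply pullback.hom_ext
  · exact sq_aux (bcMap i i' k hk V) _ _ (bcMap i i' k hk W) _ (pullback.fst V.hom i) g.left
      (pullback.fst W.hom i') (𝟙 _) (pullback.fst V.hom i') (bc_map_fst i g) (bcMap_fst i i' k hk V)
      ((bcMap_fst i i' k hk W).trans (Category.comp_id _).symm)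
      ((congrArg (fun t => ((EtCoh.bc i').map g).left ≫ t) (Category.comp_id _)).trans (bc_map_fst i' g))
  · exact sq_aux (bcMap i i' k hk V) _ _ (bcMap i i' k hk W) _ (pullback.snd V.hom i) (𝟙 _)
      (pullback.snd W.hom i') k (pullback.snd V.hom i' ≫ k)
      ((bc_map_snd i g).trans (Category.comp_id _).symm) (bcMap_snd i i' k hk V)
      (bcMap_snd i i' k hk W)
      ((Category.assoc _ _ _).symm.trans ((congrArg (fun t => t ≫ k) (bc_map_snd i' g)).trans
        (Category.comp_id _).symm))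

/-- The restriction of functions `i_* G_a ⟶ i'_* G_a`. -/
noncomputable def resG : (EtCoh.push i).obj (EtCoh.Ga Z) ⟶ (EtCoh.push i').obj (EtCoh.Ga Z') where
  hom :=
    { app := fun V => AddCommGrpCat.ofHom
        ((AddEquiv.ulift.symm.toAddMonoidHom.comp
          ((bcMap i i' k hk V.unop).appTop).hom.toAddMonoidHom).comp
            AddEquiv.ulift.toAddMonoidHom :
              ULift.{u + 1} Γ(((EtCoh.bc i).obj V.unop).left, ⊤) →+
                ULift.{u + 1} Γ(((EtCoh.bc i').obj V.unop).left, ⊤))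
      naturality := by
        intro V W f
        ext s
        apply ULift.ext
        let t : Γ(((EtCoh.bc i).obj V.unop).left, ⊤) := s.down
        change ((bcMap i i' k hk W.unop).appTop).hom (((EtCoh.bc i).map f.unop).left.appTop t) =
          (((EtCoh.bc i').map f.unop).left.appTop).hom (((bcMap i i' k hk V.unop).appTop).hom t)
        have h := congrArg (fun φ => φ.appTop) (bcMap_naturality i i' k hk f.unop)
        simp only [Scheme.Hom.comp_appTop] at h
        exact congrArg (fun φ => φ.hom t) h }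

theorem resG_app (V : X.Etale) (s : ULift.{u + 1} Γ(((EtCoh.bc i).obj V).left, ⊤)) :
    (resG i i' k hk).hom.app (op V) s =
      (ULift.up ((bcMap i i' k hk V).appTop s.down) : ULift.{u + 1} Γ(((EtCoh.bc i').obj V).left, ⊤)) := rfl

end general

section affine

variable (R : Type u) [CommRing R] (A : Type u) [CommRing A] [Algebra R A] (A' : Type u) [CommRing A']
  [Algebra R A']

/-- `Spec A ⟶ Spec R`. -/
noncomputable abbrev sp : Spec (CommRingCat.of A) ⟶ Spec (CommRingCat.of R) :=
  Spec.map (CommRingCat.ofHom (algebraMap R A))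

/-- The sheaf `V ↦ Γ(V ×_R A, 𝒪)`. -/
noncomputable def E : EtCoh.Ab (Spec (CommRingCat.of R)) :=
  (EtCoh.push (sp R A)).obj (EtCoh.Ga (Spec (CommRingCat.of A)))

/-- Multiplication by `a ∈ A`. -/
noncomputable def mulE (a : A) : E R A ⟶ E R A :=
  (EtCoh.push (sp R A)).map (gaMul (Spec (CommRingCat.of A)) ((Scheme.ΓSpecIso (CommRingCat.of A)).inv a))

theorem cast_eq_zero {p : ℕ} (h : (p : A) = 0) : (p : Γ(Spec (CommRingCat.of A), ⊤)) = 0 := by
  have h1 := congrArg (Scheme.ΓSpecIso (CommRingCat.of A)).inv.hom h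
  rwa [map_natCast, map_zero] at h1

/-- The Frobenius. -/
noncomputable def frobE {p : ℕ} [Fact p.Prime] (h : (p : A) = 0) : E R A ⟶ E R A :=
  (EtCoh.push (sp R A)).map (frobMap (Spec (CommRingCat.of A)) p (cast_eq_zero A h))

variable {A A'} in
theorem spec_comp (f : A →ₐ[R] A') : Spec.map (CommRingCat.ofHom f.toRingHom) ≫ sp R A = sp R A' := by
  rw [← Spec.map_comp, ← CommRingCat.ofHom_comp]
  congr 2
  exact f.comp_algebraMap

variable {A A'} in
/-- Functoriality. -/
noncomputable def resE (f : A →ₐ[R] A') : E R A ⟶ E R A' :=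
  resG (sp R A) (sp R A') (Spec.map (CommRingCat.ofHom f.toRingHom)) (spec_comp R f)

variable (B : Type u) [CommRing B] [Algebra R B]

/-- The isomorphism `Γ(Spec B ×_R Spec A, 𝒪) ≅ B ⊗_R A`. -/
noncomputable def σr : Γ((pullback (sp R B) (sp R A) : Scheme.{u}), ⊤) ⟶ CommRingCat.of (B ⊗[R] A) :=
  (pullbackSpecIso R B A).inv.appTop ≫ (Scheme.ΓSpecIso (CommRingCat.of (B ⊗[R] A))).hom

instance : IsIso (σr R A B) := by
  have h1 : IsIso (pullbackSpecIso R B A).inv.appTop :=
    inferInstanceAs (IsIso ((pullbackSpecIso R B A).inv.app ⊤))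
  exact IsIso.comp_isIso' h1 inferInstance

theorem σr_bijective : Function.Bijective (σr R A B) :=
  ConcreteCategory.bijective_of_isIso _

theorem snd_σr (a : A) : σr R A B ((pullback.snd (sp R B) (sp R A)).appTop
    ((Scheme.ΓSpecIso (CommRingCat.of A)).inv a)) = (1 : B) ⊗ₜ[R] a := by
  have h1 : (pullback.snd (sp R B) (sp R A)).appTop ≫ (pullbackSpecIso R B A).inv.appTop =
      (Spec.map (CommRingCat.ofHom (Algebra.TensorProduct.includeRight (R := R) (A := B) (B := A)).toRingHom)).appTop := by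
    rw [← Scheme.Hom.comp_appTop]
    congr 1
    exact pullbackSpecIso_inv_snd R B A
  have h2 : (Scheme.ΓSpecIso (CommRingCat.of A)).inv ≫ (pullback.snd (sp R B) (sp R A)).appTop ≫ σr R A B =
      CommRingCat.ofHom (Algebra.TensorProduct.includeRight (R := R) (A := B) (B := A)).toRingHom := by
    rw [σr, reassoc_of% h1, ← Category.assoc, ← Scheme.ΓSpecIso_inv_naturality]
    simp
  exact congrArg (fun φ => φ.hom a) h2

variable {A A'} in
theorem map_σr (f : A →ₐ[R] A') (k : (pullback (sp R B) (sp R A') : Scheme.{u}) ⟶ pullback (sp R B) (sp R A))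
    (h1 : k ≫ pullback.fst (sp R B) (sp R A) = pullback.fst (sp R B) (sp R A'))
    (h2 : k ≫ pullback.snd (sp R B) (sp R A) =
      pullback.snd (sp R B) (sp R A') ≫ Spec.map (CommRingCat.ofHom f.toRingHom))
    (s : Γ((pullback (sp R B) (sp R A) : Scheme.{u}), ⊤)) :
    σr R A' B (k.appTop s) = Algebra.TensorProduct.map (AlgHom.id R B) f (σr R A B s) := by
  have e1 : (pullbackSpecIso R B A').inv ≫ k = Spec.map (CommRingCat.ofHom
      (Algebra.TensorProduct.map (AlgHom.id R B) f).toRingHom) ≫ (pullbackSpecIso R B A).inv := by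
    apply pullback.hom_ext
    · rw [Category.assoc, Category.assoc, h1]
      refine (pullbackSpecIso_inv_fst R B A').trans ?_
      refine Eq.trans ?_ (congrArg (fun t => Spec.map (CommRingCat.ofHom
        (Algebra.TensorProduct.map (AlgHom.id R B) f).toRingHom) ≫ t) (pullbackSpecIso_inv_fst R B A)).symm
      rw [← Spec.map_comp, ← CommRingCat.ofHom_comp]
      congr 2
      ext b
      change b ⊗ₜ[R] (1 : A') = Algebra.TensorProduct.map (AlgHom.id R B) f (b ⊗ₜ[R] (1 : A))
      rw [Algebra.TensorProduct.map_tmul, map_one]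
      rfl
    · rw [Category.assoc, Category.assoc, h2]
      refine ((Category.assoc _ _ _).symm.trans (congrArg (fun t => t ≫ Spec.map (CommRingCat.ofHom f.toRingHom))
        (pullbackSpecIso_inv_snd R B A'))).trans ?_
      refine Eq.trans ?_ (congrArg (fun t => Spec.map (CommRingCat.ofHom
        (Algebra.TensorProduct.map (AlgHom.id R B) f).toRingHom) ≫ t) (pullbackSpecIso_inv_snd R B A)).symm
      rw [← Spec.map_comp, ← Spec.map_comp, ← CommRingCat.ofHom_comp, ← CommRingCat.ofHom_comp]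
      congr 2
  have e2 : k.appTop ≫ σr R A' B = σr R A B ≫ CommRingCat.ofHom
      (Algebra.TensorProduct.map (AlgHom.id R B) f).toRingHom := by
    have e3 : k.appTop ≫ (pullbackSpecIso R B A').inv.appTop = (pullbackSpecIso R B A).inv.appTop ≫
        (Spec.map (CommRingCat.ofHom (Algebra.TensorProduct.map (AlgHom.id R B) f).toRingHom)).appTop := by
      rw [← Scheme.Hom.comp_appTop, ← Scheme.Hom.comp_appTop, e1]
    rw [σr, σr, reassoc_of% e3, Category.assoc, Scheme.ΓSpecIso_naturality]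
  exact congrArg (fun φ => φ.hom s) e2

variable [AlgebraicGeometry.Etale (sp R B)]

/-- `Spec B` as an object of the small étale site of `Spec R`. -/
noncomputable abbrev VB : (Spec (CommRingCat.of R)).Etale := Scheme.Etale.mk (sp R B)

/-- Sections over `Spec B` are elements of `B ⊗_R A`. -/
noncomputable def σ (s : EtCoh.sect (E R A) (VB R B)) : B ⊗[R] A :=
  σr R A B (show ULift.{u + 1} Γ((pullback (sp R B) (sp R A) : Scheme.{u}), ⊤) from s).down

theorem σ_bijective : Function.Bijective (σ R A B) :=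
  (σr_bijective R A B).comp ULift.down_bijective

theorem σ_add (s t : EtCoh.sect (E R A) (VB R B)) : σ R A B (s + t) = σ R A B s + σ R A B t :=
  map_add (σr R A B).hom _ _

theorem σ_mulE (a : A) (s : EtCoh.sect (E R A) (VB R B)) :
    σ R A B ((mulE R A a).hom.app (op (VB R B)) s) = ((1 : B) ⊗ₜ[R] a) * σ R A B s := by
  have h := gaMul_app (Spec (CommRingCat.of A)) ((Scheme.ΓSpecIso (CommRingCat.of A)).inv a)
    ((EtCoh.bc (sp R A)).obj (VB R B)) s
  refine (congrArg (σ R A B) h).trans ?_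
  refine (map_mul (σr R A B).hom _ _).trans ?_
  congr 1
  exact snd_σr R A B a

variable {A A'} in
theorem σ_resE (f : A →ₐ[R] A') (s : EtCoh.sect (E R A) (VB R B)) :
    σ R A' B ((resE R f).hom.app (op (VB R B)) s) = Algebra.TensorProduct.map (AlgHom.id R B) f (σ R A B s) := by
  have h := resG_app (sp R A) (sp R A') (Spec.map (CommRingCat.ofHom f.toRingHom)) (spec_comp R f) (VB R B) s
  refine (congrArg (σ R A' B) h).trans ?_
  exact map_σr R B f _ (bcMap_fst (sp R A) (sp R A') (Spec.map (CommRingCat.ofHom f.toRingHom)) (spec_comp R f) (VB R B))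
    (bcMap_snd (sp R A) (sp R A') (Spec.map (CommRingCat.ofHom f.toRingHom)) (spec_comp R f) (VB R B)) _

theorem σ_frobE {p : ℕ} [Fact p.Prime] (h : (p : A) = 0) (s : EtCoh.sect (E R A) (VB R B)) :
    σ R A B ((frobE R A h).hom.app (op (VB R B)) s) = (σ R A B s) ^ p := by
  have h := frobMap_app (Spec (CommRingCat.of A)) p (cast_eq_zero A h) ((EtCoh.bc (sp R A)).obj (VB R B)) s
  refine (congrArg (σ R A B) h).trans ?_
  exact map_pow (σr R A B).hom _ _

end affine

section exact

variable (R : Type u) [CommRing R]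

/-- The objects `Spec B` (`B` étale over `R`) cover. -/
theorem exists_VB (U : (Spec (CommRingCat.of R)).Etale) (x : U.left) :
    ∃ (B : Type u) (_ : CommRing B) (_ : Algebra R B) (_ : AlgebraicGeometry.Etale (sp R B))
      (g : VB R B ⟶ U) (v : (VB R B).left), g.left v = x := by
  obtain ⟨W, hW, hxW, -⟩ := exists_isAffineOpen_mem_and_subset (X := U.left) (U := ⊤) (x := x) trivial
  let f : Spec Γ(U.left, W) ⟶ Spec (CommRingCat.of R) := hW.fromSpec ≫ U.hom
  let _ : Algebra R Γ(U.left, W) := (Spec.preimage f).hom.toAlgebra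
  have hf : sp R Γ(U.left, W) = f := Spec.map_preimage f
  have hfe : AlgebraicGeometry.Etale f := inferInstance
  have : AlgebraicGeometry.Etale (sp R Γ(U.left, W)) := by rw [hf]; exact hfe
  let g : VB R Γ(U.left, W) ⟶ U := MorphismProperty.Over.homMk hW.fromSpec hf.symm
  obtain ⟨v, hv⟩ : ∃ v, hW.fromSpec v = x := by
    have h2 : x ∈ Set.range hW.fromSpec := by rw [hW.range_fromSpec]; exact hxW
    exact h2
  exact ⟨Γ(U.left, W), inferInstance, inferInstance, this, g, v, hv⟩

theorem flat_of_etale (B : Type u) [CommRing B] [Algebra R B] [AlgebraicGeometry.Etale (sp R B)] :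
    Module.Flat R B := by
  have h1 : Flat (sp R B) := inferInstance
  have h2 := (HasRingHomProperty.Spec_iff (P := @Flat)).1 h1
  exact RingHom.flat_algebraMap_iff.1 h2

theorem comp_app' {F G H : EtCoh.Ab (Spec (CommRingCat.of R))} (φ : F ⟶ G) (ψ : G ⟶ H)
    (V : (Spec (CommRingCat.of R)).Etale) (s : EtCoh.sect F V) :
    (φ ≫ ψ).hom.app (op V) s = ψ.hom.app (op V) (φ.hom.app (op V) s) := rfl

theorem nat_app {F G : EtCoh.Ab (Spec (CommRingCat.of R))} (φ : F ⟶ G)
    {U V : (Spec (CommRingCat.of R)).Etale} (g : V ⟶ U) (s : EtCoh.sect F U) :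
    φ.hom.app (op V) (F.obj.map g.op s) = G.obj.map g.op (φ.hom.app (op U) s) :=
  congrArg (fun t => t s) (φ.hom.naturality g.op)

theorem hom_ext' {F G : EtCoh.Ab (Spec (CommRingCat.of R))} (φ ψ : F ⟶ G)
    (h : ∀ (B : Type u) [CommRing B] [Algebra R B] [AlgebraicGeometry.Etale (sp R B)]
      (s : EtCoh.sect F (VB R B)), φ.hom.app (op (VB R B)) s = ψ.hom.app (op (VB R B)) s) : φ = ψ := by
  apply Sheaf.hom_ext
  ext U s
  refine Groth.Agent.Etbase.EtSite.sect_ext G U.unop _ _ (fun x => ?_)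
  obtain ⟨B, _, _, _, g, v, hv⟩ := exists_VB R U.unop x
  refine ⟨VB R B, g, v, hv, ?_⟩
  exact (nat_app R φ g s).symm.trans ((h B _).trans (nat_app R ψ g s))

variable (A : Type u) [CommRing A] [Algebra R A] (A' : Type u) [CommRing A'] [Algebra R A']

theorem σ_ext (B : Type u) [CommRing B] [Algebra R B] [AlgebraicGeometry.Etale (sp R B)]
    {s t : EtCoh.sect (E R A) (VB R B)} (h : σ R A B s = σ R A B t) : s = t := (σ_bijective R A B).1 h

theorem σ_zero (B : Type u) [CommRing B] [Algebra R B] [AlgebraicGeometry.Etale (sp R B)] :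
    σ R A B 0 = 0 := map_zero (σr R A B).hom

theorem mulE_mulE (a b : A) : mulE R A a ≫ mulE R A b = mulE R A (a * b) := by
  refine hom_ext' R _ _ (fun B _ _ _ s => σ_ext R A B ?_)
  rw [comp_app', σ_mulE, σ_mulE, σ_mulE, ← mul_assoc, Algebra.TensorProduct.tmul_mul_tmul, one_mul, mul_comm b a]

theorem mulE_one : mulE R A 1 = 𝟙 _ := by
  refine hom_ext' R _ _ (fun B _ _ _ s => σ_ext R A B ?_)
  refine (σ_mulE R A B 1 _).trans ?_
  exact one_mul _

theorem mulE_frobE {p : ℕ} [Fact p.Prime] (h : (p : A) = 0) (a : A) :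
    mulE R A a ≫ frobE R A h = frobE R A h ≫ mulE R A (a ^ p) := by
  refine hom_ext' R _ _ (fun B _ _ _ s => σ_ext R A B ?_)
  rw [comp_app', comp_app', σ_frobE, σ_mulE, σ_mulE, σ_frobE, mul_pow, Algebra.TensorProduct.tmul_pow, one_pow]

variable {A A'}

theorem mulE_resE (f : A →ₐ[R] A') (a : A) : mulE R A a ≫ resE R f = resE R f ≫ mulE R A' (f a) := by
  refine hom_ext' R _ _ (fun B _ _ _ s => σ_ext R A' B ?_)
  rw [comp_app', comp_app', σ_resE, σ_mulE, σ_mulE, σ_resE, map_mul, Algebra.TensorProduct.map_tmul, map_one]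

theorem frobE_resE {p : ℕ} [Fact p.Prime] (h : (p : A) = 0) (h' : (p : A') = 0) (f : A →ₐ[R] A') :
    frobE R A h ≫ resE R f = resE R f ≫ frobE R A' h' := by
  refine hom_ext' R _ _ (fun B _ _ _ s => σ_ext R A' B ?_)
  rw [comp_app', comp_app', σ_resE, σ_frobE, σ_frobE, σ_resE, map_pow]

theorem mulE_zero : mulE R A 0 = 0 := by
  refine hom_ext' R _ _ (fun B _ _ _ s => σ_ext R A B ?_)
  refine (σ_mulE R A B 0 _).trans ?_
  rw [TensorProduct.tmul_zero, zero_mul]
  exact (σ_zero R A B).symm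

variable (f : A →ₐ[R] A') (hf : Function.Surjective f) (a : A) (hker : RingHom.ker f = Ideal.span {a})
  (ha : ∀ b : A, a * b = 0 → b = 0)

include hker in
theorem comp_eq_zero : mulE R A a ≫ resE R f = 0 := by
  have h1 : f a = 0 := by
    have : a ∈ RingHom.ker f := by rw [hker]; exact Ideal.mem_span_singleton_self a
    exact this
  rw [mulE_resE, h1, mulE_zero, comp_zero]

include hker ha hf in
theorem tensor_exact (B : Type u) [CommRing B] [Algebra R B] [Module.Flat R B] :
    (∀ z : B ⊗[R] A, ((1 : B) ⊗ₜ[R] a) * z = 0 → z = 0) ∧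
    (∀ z : B ⊗[R] A, Algebra.TensorProduct.map (AlgHom.id R B) f z = 0 → ∃ t, ((1 : B) ⊗ₜ[R] a) * t = z) ∧
    Function.Surjective (Algebra.TensorProduct.map (AlgHom.id R B) f) := by
  have e1 : ∀ z : B ⊗[R] A, ((1 : B) ⊗ₜ[R] a) * z = (LinearMap.mulLeft R a).lTensor B z := by
    intro z
    induction z with
    | zero => rw [mul_zero, map_zero]
    | tmul b c =>
      rw [Algebra.TensorProduct.tmul_mul_tmul, one_mul, LinearMap.lTensor_tmul]
      rfl
    | add x y hx hy => rw [mul_add, map_add, hx, hy]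
  have e2 : ∀ z : B ⊗[R] A, Algebra.TensorProduct.map (AlgHom.id R B) f z = f.toLinearMap.lTensor B z := by
    intro z
    induction z with
    | zero => rw [map_zero, map_zero]
    | tmul b c =>
      rw [Algebra.TensorProduct.map_tmul, LinearMap.lTensor_tmul]
      rfl
    | add x y hx hy => rw [map_add, map_add, hx, hy]
  have hinj : Function.Injective (LinearMap.mulLeft R a) := by
    rw [← LinearMap.ker_eq_bot, LinearMap.ker_eq_bot']
    exact fun b hb => ha b hb
  have hex : Function.Exact (LinearMap.mulLeft R a) f.toLinearMap := by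
    intro b
    have : f.toLinearMap b = 0 ↔ b ∈ RingHom.ker f := Iff.rfl
    rw [this, hker, Ideal.mem_span_singleton']
    constructor
    · rintro ⟨c, hc⟩
      exact ⟨c, by rw [LinearMap.mulLeft_apply, mul_comm]; exact hc⟩
    · rintro ⟨c, hc⟩
      exact ⟨c, by rw [mul_comm]; exact hc⟩
  refine ⟨fun z hz => ?_, fun z hz => ?_, fun z => ?_⟩
  · rw [e1] at hz
    exact (injective_iff_map_eq_zero _).1 (Module.Flat.lTensor_preserves_injective_linearMap _ hinj) z hz
  · rw [e2] at hz
    obtain ⟨t, ht⟩ := (lTensor_exact B hex hf z).1 hz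
    exact ⟨t, (e1 t).trans ht⟩
  · obtain ⟨t, ht⟩ := LinearMap.lTensor_surjective B (g := f.toLinearMap) hf z
    exact ⟨t, (e2 t).trans ht⟩

include hf ha in
/-- `0 ⟶ E A ⟶ E A ⟶ E (A/a) ⟶ 0`. -/
theorem shortExact : (ShortComplex.mk (mulE R A a) (resE R f) (comp_eq_zero R f a hker)).ShortExact where
  mono_f := by
    refine mono_of_injective _ (fun U s hs => ?_)
    refine Groth.Agent.Etbase.EtSite.sect_eq_zero _ U s (fun x => ?_)
    obtain ⟨B, _, _, _, g, v, hv⟩ := exists_VB R U x
    refine ⟨VB R B, g, v, hv, σ_ext R A B ?_⟩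
    have := flat_of_etale R B
    rw [σ_zero]
    apply (tensor_exact R f hf a hker ha B).1
    rw [← σ_mulE]
    have h1 := nat_app R (mulE R A a) g s
    refine (congrArg (σ R A B) h1).trans ?_
    have h2 : (mulE R A a).hom.app (op U) s = 0 := hs
    rw [h2, map_zero, σ_zero]
  epi_g := by
    rw [Groth.Agent.Dix.EtaleSieve.epi_iff]
    intro U s x
    obtain ⟨B, _, _, _, g, v, hv⟩ := exists_VB R U x
    have := flat_of_etale R B
    obtain ⟨t, ht⟩ := (tensor_exact R f hf a hker ha B).2.2 (σ R A' B ((E R A').obj.map g.op s))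
    obtain ⟨t', rfl⟩ := (σ_bijective R A B).2 t
    refine ⟨VB R B, g, ⟨v, hv⟩, t', σ_ext R A' B ?_⟩
    rw [← ht]
    exact σ_resE R B f t'
  exact := by
    refine exact_of_local _ (fun U s hs x => ?_)
    obtain ⟨B, _, _, _, g, v, hv⟩ := exists_VB R U x
    have := flat_of_etale R B
    have h0 : Algebra.TensorProduct.map (AlgHom.id R B) f (σ R A B ((E R A).obj.map g.op s)) = 0 := by
      rw [← σ_resE]
      refine (congrArg (σ R A' B) (nat_app R (resE R f) g s)).trans ?_
      have h2 : (resE R f).hom.app (op U) s = 0 := hs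
      rw [h2, map_zero, σ_zero]
    obtain ⟨t, ht⟩ := (tensor_exact R f hf a hker ha B).2.1 _ h0
    obtain ⟨t', rfl⟩ := (σ_bijective R A B).2 t
    refine ⟨VB R B, g, ⟨v, hv⟩, t', σ_ext R A B ?_⟩
    refine Eq.trans ?_ ht
    exact σ_mulE R A B a t'

end exact

end K152.AffPush
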