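import Mathlib.Algebra.Homology.DerivedCategory.Ext.ExactSequences

/-!
# `Ext^n(K, -)` along `0 ⟶ E ⟶ E ⟶ E' ⟶ 0` with Frobenius endomorphisms

Abstract induction step for the injectivity of the Frobenius on the top local cohomology.
-/

set_option autoImplicit false
universe w v u
open CategoryTheory CategoryTheory.Limits CategoryTheory.Abelian

namespace K152.ExtStep

variable {𝒜 : Type u} [Category.{v} 𝒜] [Abelian 𝒜] [HasExt.{w} 𝒜] {K : 𝒜}

/-- The action of a map on `Ext^n(K, -)`. -/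
noncomputable abbrev act {E E' : 𝒜} (c : E ⟶ E') {n : ℕ} (y : Ext K E n) : Ext K E' n :=
  y.comp (Ext.mk₀ c) (add_zero n)

theorem act_zero {E E' : 𝒜} (c : E ⟶ E') {n : ℕ} : act c (0 : Ext K E n) = 0 := Ext.zero_comp _ _ _ _ _

theorem act_add {E E' : 𝒜} (c : E ⟶ E') {n : ℕ} (y z : Ext K E n) :
    act c (y + z) = act c y + act c z := Ext.add_comp _ _ _ _

theorem act_sub_map {E E' : 𝒜} (c d : E ⟶ E') {n : ℕ} (y : Ext K E n) :
    act (c - d) y = act c y - act d y := by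
  rw [act, act, act, sub_eq_add_neg, Ext.mk₀_add, Ext.comp_add, sub_eq_add_neg]
  congr 1
  rw [← Ext.comp_neg]
  congr 1
  rw [← add_eq_zero_iff_eq_neg, ← Ext.mk₀_add, neg_add_cancel, Ext.mk₀_zero]

theorem act_act {E E' E'' : 𝒜} (c : E ⟶ E') (d : E' ⟶ E'') {n : ℕ} (y : Ext K E n) :
    act d (act c y) = act (c ≫ d) y := by
  rw [act, act, act, Ext.comp_assoc_of_second_deg_zero, Ext.mk₀_comp_mk₀]

theorem act_id {E : 𝒜} {n : ℕ} (y : Ext K E n) : act (𝟙 E) y = y := Ext.comp_mk₀_id _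

section

variable {S : ShortComplex 𝒜} (hS : S.ShortExact)

/-- The connecting homomorphism. -/
noncomputable abbrev conn {n : ℕ} (z : Ext K S.X₃ n) : Ext K S.X₁ (n + 1) := z.comp hS.extClass rfl

theorem conn_injective {n : ℕ} (h0 : Subsingleton (Ext K S.X₂ n)) :
    Function.Injective (conn (K := K) (n := n) hS) := by
  intro z z' h
  rw [← sub_eq_zero]
  have h1 : (z - z').comp hS.extClass rfl = 0 := by
    rw [sub_eq_add_neg, Ext.add_comp, Ext.neg_comp, ← sub_eq_add_neg, sub_eq_zero]; exact h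
  obtain ⟨w, hw⟩ := Ext.covariant_sequence_exact₃ K hS (z - z') rfl h1
  rw [← hw, h0.elim w 0, Ext.zero_comp]

theorem act_conn {S' : ShortComplex 𝒜} (hS' : S'.ShortExact) (φ : S ⟶ S') {n : ℕ} (z : Ext K S.X₃ n) :
    act φ.τ₁ (conn hS z) = conn hS' (act φ.τ₃ z) := by
  rw [act, conn, conn, act, Ext.comp_assoc_of_third_deg_zero, Ext.comp_assoc_of_second_deg_zero,
    ShortComplex.ShortExact.extClass_naturality hS hS' φ]

theorem act_eq_zero_of_conn (φ : S ⟶ S) {n : ℕ} (h0 : Subsingleton (Ext K S.X₂ n)) (z : Ext K S.X₃ n)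
    (h : act φ.τ₁ (conn hS z) = 0) : act φ.τ₃ z = 0 := by
  rw [act_conn hS hS φ] at h
  apply conn_injective hS h0
  rw [h, conn, Ext.zero_comp]

include hS in
theorem subsingleton₃ {n : ℕ} (h2 : Subsingleton (Ext K S.X₂ n)) (h1 : Subsingleton (Ext K S.X₁ (n + 1))) :
    Subsingleton (Ext K S.X₃ n) := by
  refine subsingleton_of_forall_eq 0 (fun z => ?_)
  obtain ⟨w, hw⟩ := Ext.covariant_sequence_exact₃ K hS z rfl (h1.elim _ _)
  rw [← hw, h2.elim w 0, Ext.zero_comp]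

include hS in
theorem subsingleton₁ {n : ℕ} (h3 : ∀ m, m + 1 = n → Subsingleton (Ext K S.X₃ m))
    (h2 : Subsingleton (Ext K S.X₂ n)) (hn : n ≠ 0) :
    Subsingleton (Ext K S.X₁ n) := by
  obtain ⟨m, rfl⟩ := Nat.exists_eq_succ_of_ne_zero hn
  refine subsingleton_of_forall_eq 0 (fun z => ?_)
  obtain ⟨w, hw⟩ := Ext.covariant_sequence_exact₁ K hS z (h2.elim _ _) rfl
  have := h3 m rfl
  rw [← hw, this.elim w 0, Ext.zero_comp]

end

/-- Powers of an endomorphism. -/
noncomputable def pw {C : Type u} [Category.{v} C] {E : C} (x : E ⟶ E) : ℕ → (E ⟶ E)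
  | 0 => 𝟙 E
  | N + 1 => pw x N ≫ x

theorem pw_zero {C : Type u} [Category.{v} C] {E : C} (x : E ⟶ E) : pw x 0 = 𝟙 E := rfl

theorem pw_succ' {C : Type u} [Category.{v} C] {E : C} (x : E ⟶ E) (N : ℕ) : pw x (N + 1) = pw x N ≫ x := rfl

theorem pw_add {C : Type u} [Category.{v} C] {E : C} (x : E ⟶ E) (M N : ℕ) :
    pw x (M + N) = pw x M ≫ pw x N := by
  induction N with
  | zero => rw [pw_zero, Category.comp_id, add_zero]
  | succ N ih => rw [← add_assoc, pw_succ', ih, pw_succ', Category.assoc]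

theorem pw_comp_frob {C : Type u} [Category.{v} C] {E : C} {p : ℕ} (x F : E ⟶ E) (hF : x ≫ F = F ≫ pw x p) (N : ℕ) :
    pw x N ≫ F = F ≫ pw x (p * N) := by
  induction N with
  | zero => rw [mul_zero, pw_zero, Category.id_comp, Category.comp_id]
  | succ N ih =>
    rw [pw_succ', Category.assoc, hF, reassoc_of% ih, Nat.mul_succ, pw_add]

variable {E E' : 𝒜} {p : ℕ} (hp : 2 ≤ p) {x F : E ⟶ E} (hF : x ≫ F = F ≫ pw x p) {F' : E' ⟶ E'} {π : E ⟶ E'}
  (hπ : F ≫ π = π ≫ F') (w : x ≫ π = 0) (hS : (ShortComplex.mk x π w).ShortExact)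

include hp hF hπ hS in
/-- Key step: on the kernel of `x`, the map `x^{p-1} F` is injective. -/
theorem key {n : ℕ} (h0 : Subsingleton (Ext K E n))
    (hinj : ∀ z : Ext K E' n, act F' z = 0 → z = 0) (y : Ext K E (n + 1)) (hy : act x y = 0)
    (h : act (F ≫ pw x (p - 1)) y = 0) : y = 0 := by
  obtain ⟨z, rfl⟩ := Ext.covariant_sequence_exact₁ K hS y hy rfl
  let φ : ShortComplex.mk x π w ⟶ ShortComplex.mk x π w :=
    { τ₁ := F ≫ pw x (p - 1)
      τ₂ := F
      τ₃ := F'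
      comm₁₂ := by
        change (F ≫ pw x (p - 1)) ≫ x = x ≫ F
        rw [hF, Category.assoc, ← pw_succ']
        congr 2
        omega
      comm₂₃ := hπ }
  have h1 : act φ.τ₃ z = 0 := act_eq_zero_of_conn hS φ h0 z h
  have h2 : z = 0 := hinj z h1
  rw [h2, Ext.zero_comp]

include hp hF hπ hS in
/-- Main step. -/
theorem exists_ne {n : ℕ} (h0 : Subsingleton (Ext K E n))
    (hinj : ∀ z : Ext K E' n, act F' z = 0 → z = 0)
    (htors : ∀ y : Ext K E (n + 1), ∃ N, act (pw x N) y = 0) (y : Ext K E (n + 1)) (hy : y ≠ 0) :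
    ∃ N, act (pw x (N + 1)) y = 0 ∧ act (pw x (p * (N + 1) - 1)) (act F y) ≠ 0 := by
  classical
  obtain ⟨N, hN, hmin⟩ : ∃ N, act (pw x N) y = 0 ∧ ∀ M < N, act (pw x M) y ≠ 0 :=
    ⟨Nat.find (htors y), Nat.find_spec (htors y), fun M hM => Nat.find_min (htors y) hM⟩
  have hN0 : N ≠ 0 := by
    rintro rfl
    rw [pw_zero, act_id] at hN
    exact hy hN
  obtain ⟨M, rfl⟩ := Nat.exists_eq_succ_of_ne_zero hN0
  refine ⟨M, hN, fun h => hmin M (Nat.lt_succ_self M) ?_⟩
  apply key hp hF hπ w hS h0 hinj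
  · rw [act_act, ← pw_succ']
    exact hN
  · rw [act_act, reassoc_of% (pw_comp_frob x F hF M), ← pw_add, ← act_act]
    have : p * M + (p - 1) = p * (M + 1) - 1 := by
      rw [Nat.mul_succ]; omega
    rw [this]
    exact h

include hp hF hπ hS in
/-- The Frobenius is injective on `Ext^{n+1}(K, E)`. -/
theorem frob_injective {n : ℕ} (h0 : Subsingleton (Ext K E n))
    (hinj : ∀ z : Ext K E' n, act F' z = 0 → z = 0)
    (htors : ∀ y : Ext K E (n + 1), ∃ N, act (pw x N) y = 0) (y : Ext K E (n + 1)) (hy : act F y = 0) :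
    y = 0 := by
  by_contra hne
  obtain ⟨N, -, h⟩ := exists_ne hp hF hπ w hS h0 hinj htors y hne
  apply h
  rw [hy, act_zero]

include hp hF hπ hS in
/-- `F - 1` is injective on `Ext^{n+1}(K, E)`. -/
theorem eq_zero_of_fixed {n : ℕ} (h0 : Subsingleton (Ext K E n))
    (hinj : ∀ z : Ext K E' n, act F' z = 0 → z = 0)
    (htors : ∀ y : Ext K E (n + 1), ∃ N, act (pw x N) y = 0) (y : Ext K E (n + 1)) (hy : act F y = y) :
    y = 0 := by
  by_contra hne
  obtain ⟨N, hN, h⟩ := exists_ne hp hF hπ w hS h0 hinj htors y hne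
  apply h
  have h2 : p * (N + 1) - 1 = (N + 1) + (p * (N + 1) - 1 - (N + 1)) := by
    have : 2 * (N + 1) ≤ p * (N + 1) := Nat.mul_le_mul_right _ hp
    omega
  rw [hy, h2, pw_add, ← act_act, hN, act_zero]

end K152.ExtStep
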