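import Groth.Agent.EtDual.K152.LocExt
import Groth.Agent.EtDual.K152.ExtStep

/-!
# `Ext^n(ℤ_U, F) = H^n(U, F)`, naturally, and the vanishing/torsion criteria for `Ext^n(K, F)`
-/

set_option autoImplicit false
universe u
open CategoryTheory CategoryTheory.Limits CategoryTheory.Abelian AlgebraicGeometry Opposite

namespace K152.ExtU

open Groth.Agent.Sga4h Groth.Agent.Sga4h.HYRestr Groth.Agent.CurvesA.SiteZU
  Groth.Agent.CurvesA.PushAcyclic Groth.Agent.CurvesA.AcycEtale Groth.Agent.CurvesA LocExt K152.ExtStep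

variable {X U : Scheme.{u}} (j : U ⟶ X) [IsOpenImmersion j]

/-- `Ext^n(ℤ_U, F) ≃+ H^n(U, F|_U)`. -/
noncomputable def extEquivU (F : EtCoh.Ab X) (n : ℕ) :
    Ext ((Z X).obj (obj j)) F n ≃+ EtCoh.H U ((EtShriek.restrAlong j).obj F) n :=
  haveI := Groth.Agent.S0648.result j
  haveI : (EtShriek.extZero j).Additive := (EtShriek.extZeroAdj j).left_adjoint_additive
  haveI : PreservesColimitsOfSize.{0, 0} (EtShriek.extZero j) :=
    (EtShriek.extZeroAdj j).leftAdjoint_preservesColimits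
  haveI : PreservesFiniteColimits (EtShriek.extZero j) :=
    PreservesColimitsOfSize.preservesFiniteColimits.{0, 0} _
  haveI := Groth.Agent.Sga4h.EtaleRes2.preservesFiniteLimits_restrAlong j
  haveI := Groth.Agent.Sga4h.EtaleRes2.preservesFiniteColimits_restrAlong j
  (ExtStep.precompIso (extZeroZ j (EtCoh.top U)) F n).trans
    ((Groth.Agent.Etcore.ExtAdj.extAdj (EtShriek.extZeroAdj j) ((Z U).obj (EtCoh.top U)) F n).trans
      (HEquiv.{u + 1, u + 1} (J := U.smallEtaleTopology)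
        (Groth.Agent.Etbase.ExactSections.topIsTerminal U) ((EtShriek.restrAlong j).obj F) n).symm)

/-- Naturality. -/
theorem extEquivU_act {F G : EtCoh.Ab X} (f : F ⟶ G) (n : ℕ) (x : Ext ((Z X).obj (obj j)) F n) :
    extEquivU j G n (act f x) = Sheaf.H.map ((EtShriek.restrAlong j).map f) n (extEquivU j F n x) := by
  have := Groth.Agent.S0648.result j
  have : (EtShriek.extZero j).Additive := (EtShriek.extZeroAdj j).left_adjoint_additive
  have : PreservesColimitsOfSize.{0, 0} (EtShriek.extZero j) :=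
    (EtShriek.extZeroAdj j).leftAdjoint_preservesColimits
  have : PreservesFiniteColimits (EtShriek.extZero j) :=
    PreservesColimitsOfSize.preservesFiniteColimits.{0, 0} _
  have := Groth.Agent.Sga4h.EtaleRes2.preservesFiniteLimits_restrAlong j
  have := Groth.Agent.Sga4h.EtaleRes2.preservesFiniteColimits_restrAlong j
  let e1 := fun (F : EtCoh.Ab X) => Groth.Agent.CurvesA.ExtStep.precompIso (extZeroZ j (EtCoh.top U)) F n
  let e2 := fun (F : EtCoh.Ab X) =>
    Groth.Agent.Etcore.ExtAdj.extAdj (EtShriek.extZeroAdj j) ((Z U).obj (EtCoh.top U)) F n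
  let e3 := fun (F : EtCoh.Ab X) => HEquiv.{u + 1, u + 1} (J := U.smallEtaleTopology)
        (Groth.Agent.Etbase.ExactSections.topIsTerminal U) ((EtShriek.restrAlong j).obj F) n
  have h1 : e1 G (act f x) = act f (e1 F x) := by
    change (Ext.mk₀ _).comp (x.comp (Ext.mk₀ f) (add_zero n)) (zero_add n) =
      ((Ext.mk₀ _).comp x (zero_add n)).comp (Ext.mk₀ f) (add_zero n)
    rw [Ext.comp_assoc_of_third_deg_zero]
  have h2 : ∀ y, e2 G (act f y) = act ((EtShriek.restrAlong j).map f) (e2 F y) := fun y =>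
    Groth.Agent.Etcore.ExtAdj.extAdj_postcomp (EtShriek.extZeroAdj j) f n y
  have h3 : ∀ z, (e3 G).symm (act ((EtShriek.restrAlong j).map f) z) =
      Sheaf.H.map ((EtShriek.restrAlong j).map f) n ((e3 F).symm z) := by
    intro z
    rw [Sheaf.H.map_apply]
    change (Ext.mk₀ _).comp (z.comp (Ext.mk₀ _) (add_zero n)) (zero_add n) =
      ((Ext.mk₀ _).comp z (zero_add n)).comp (Ext.mk₀ _) (add_zero n)
    rw [Ext.comp_assoc_of_third_deg_zero]
  change (e3 G).symm (e2 G (e1 G (act f x))) = Sheaf.H.map _ n ((e3 F).symm (e2 F (e1 F x)))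
  rw [h1, h2, h3]

/-- `Ext^n(ℤ_X, F) = H^n(X, F)`. -/
theorem subsingleton_extX (F : EtCoh.Ab X) (n : ℕ) (h : Subsingleton (EtCoh.H X F n)) :
    Subsingleton (Ext ((Z X).obj (EtCoh.top X)) F n) :=
  (HEquiv.{u + 1, u + 1} (J := X.smallEtaleTopology) (isTerminalTop X) F n).symm.toEquiv.subsingleton

section criteria

variable {j} {F : EtCoh.Ab X}

theorem surj_conn {n : ℕ} (hX : Subsingleton (EtCoh.H X F (n + 1))) (y : Ext (K j) F (n + 1)) :
    ∃ z : Ext ((Z X).obj (obj j)) F n, (seqK_shortExact j).extClass.comp z (Nat.add_comm 1 n) = y := by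
  have := subsingleton_extX F (n + 1) hX
  exact Ext.contravariant_sequence_exact₃ (seqK_shortExact j) F y (Subsingleton.elim _ _) (Nat.add_comm 1 n)

/-- Vanishing in degree `≥ 2`. -/
theorem subsingleton_succ {n : ℕ} (hX : Subsingleton (EtCoh.H X F (n + 1)))
    (hU : Subsingleton (EtCoh.H U ((EtShriek.restrAlong j).obj F) n)) : Subsingleton (Ext (K j) F (n + 1)) := by
  have h1 : Subsingleton (Ext ((Z X).obj (obj j)) F n) := (extEquivU j F n).toEquiv.subsingleton
  refine subsingleton_of_forall_eq 0 (fun y => ?_)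
  obtain ⟨z, rfl⟩ := surj_conn hX y
  rw [h1.elim z 0, Ext.comp_zero]

/-- Vanishing in degree `0`. -/
theorem subsingleton_zero (h : ∀ s : EtCoh.sect F (EtCoh.top X), F.obj.map (mU j).op s = 0 → s = 0) :
    Subsingleton (Ext (K j) F 0) := by
  refine subsingleton_of_forall_eq 0 (fun y => ?_)
  obtain ⟨φ, rfl⟩ := Ext.addEquiv₀.symm.surjective y
  have h1 : φ = 0 := by
    obtain ⟨s, rfl⟩ := (kerSectEquiv (mU j) F).surjective φ
    have h2 : s = 0 := Subtype.ext (h s.1 s.2)
    rw [h2, map_zero]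
  rw [h1, map_zero]

/-- Degree `1`: elements come from sections over `U`. -/
theorem exists_of_one (hX : Subsingleton (EtCoh.H X F 1)) (y : Ext (K j) F 1) :
    ∃ t : EtCoh.sect F (obj j), ∀ (c : F ⟶ F) (s : EtCoh.sect F (EtCoh.top X)),
      F.obj.map (mU j).op s = c.hom.app (op (obj j)) t → act c y = 0 := by
  obtain ⟨z, rfl⟩ := surj_conn hX y
  obtain ⟨φ, rfl⟩ := Ext.addEquiv₀.symm.surjective z
  refine ⟨ev.{u + 1} φ, fun c s hs => ?_⟩
  have h1 : φ ≫ c = (Z X).map (mU j) ≫ lift.{u + 1} (F := F) s := by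
    apply ev_injective.{u + 1}
    rw [ev_comp, map_comp_lift, ev_lift]
    exact hs.symm
  change ((seqK_shortExact j).extClass.comp (Ext.mk₀ φ) (add_zero 1)).comp (Ext.mk₀ c) (add_zero 1) = 0
  rw [Ext.comp_assoc_of_third_deg_zero, Ext.mk₀_comp_mk₀, h1, ← Ext.mk₀_comp_mk₀,
    (seqK_shortExact j).extClass_comp_assoc]

/-- Vanishing in degree `1`. -/
theorem subsingleton_one (hX : Subsingleton (EtCoh.H X F 1))
    (h : ∀ t : EtCoh.sect F (obj j), ∃ s : EtCoh.sect F (EtCoh.top X), F.obj.map (mU j).op s = t) :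
    Subsingleton (Ext (K j) F 1) := by
  refine subsingleton_of_forall_eq 0 (fun y => ?_)
  obtain ⟨t, ht⟩ := exists_of_one hX y
  obtain ⟨s, hs⟩ := h t
  rw [← act_id y]
  exact ht (𝟙 F) s hs

/-- Torsion in degree `≥ 2`. -/
theorem act_eq_zero_succ {n : ℕ} (hX : Subsingleton (EtCoh.H X F (n + 1))) (y : Ext (K j) F (n + 1)) :
    ∃ z : EtCoh.H U ((EtShriek.restrAlong j).obj F) n, ∀ c : F ⟶ F,
      Sheaf.H.map ((EtShriek.restrAlong j).map c) n z = 0 → act c y = 0 := by
  obtain ⟨z, rfl⟩ := surj_conn hX y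
  refine ⟨extEquivU j F n z, fun c hc => ?_⟩
  rw [← extEquivU_act] at hc
  have h1 : act c z = 0 := (extEquivU j F n).injective (hc.trans (map_zero _).symm)
  change ((seqK_shortExact j).extClass.comp z (Nat.add_comm 1 n)).comp (Ext.mk₀ c) (add_zero (n + 1)) = 0
  rw [Ext.comp_assoc_of_third_deg_zero]
  change (seqK_shortExact j).extClass.comp (act c z) (Nat.add_comm 1 n) = 0
  rw [h1, Ext.comp_zero]

end criteria

end K152.ExtU
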