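import Groth.Agent.EtDual.K152.Fib
import Groth.Agent.HTop.K343.Main
import Mathlib.RingTheory.Spectrum.Prime.Topology
import Mathlib.RingTheory.Polynomial.Basic

/-!
# The base `Y = Spec ℤ[x_1, …, x_d]` and the complex `K` of sections with support in `V(x)`

* `P d`, `Yd d = Spec (P d)`, `ed d : Y₀ ⟶ Y` the open complement of `V(x_1, …, x_d)`;
* `pt g : Over (Yd d)` for `g : Fin d → R`, `ptMap`, `ptF x : (Under R₀)ᵒᵖ ⥤ Over (Yd d)`;
* `KK K n d`: the complex `K` on `Over (Yd d)` with coefficients `ℤ/n`;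
* `nonempty_KK`: `H^(q+1)(K(pt g)) ≅ H^q(Spec R - V(g), ℤ/n)`.
-/

set_option autoImplicit false
set_option backward.isDefEq.respectTransparency false
set_option backward.isDefEq.respectTransparency.types false

universe w v u u' v'

open CategoryTheory CategoryTheory.Limits Opposite ComplexShape AlgebraicGeometry

noncomputable section

namespace K152.FibPt

open K781.Desc K781.Cech K933.UnivDesc K152.Fib

section base

variable (d : ℕ)

/-- `ℤ[x_1, …, x_d]`. -/
abbrev P : Type u := MvPolynomial (Fin d) (ULift.{u} ℤ)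

/-- `Spec ℤ[x_1, …, x_d]`. -/
abbrev Yd : Scheme.{u} := Spec (CommRingCat.of (P.{u} d))

/-- The complement of `V(x_1, …, x_d)`. -/
def Ud : (Yd.{u} d).Opens :=
  ⟨(PrimeSpectrum.zeroLocus (Set.range (MvPolynomial.X : Fin d → P.{u} d)))ᶜ,
    (PrimeSpectrum.isClosed_zeroLocus _).isOpen_compl⟩

/-- The open immersion of the complement. -/
abbrev ed : (Ud.{u} d : Scheme.{u}) ⟶ Yd.{u} d := (Ud d).ι

instance isNoetherianRing_P : IsNoetherianRing (P.{u} d) := by
  have h : IsNoetherianRing (ULift.{u} ℤ) := isNoetherianRing_of_ringEquiv ℤ ULift.ringEquiv.symm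
  exact MvPolynomial.isNoetherianRing

instance quasiCompact_ed : QuasiCompact (ed.{u} d) := by
  have : IsNoetherian (Yd.{u} d) := inferInstance
  infer_instance

theorem range_ed : Set.range (ed.{u} d) =
    (PrimeSpectrum.zeroLocus (Set.range (MvPolynomial.X : Fin d → P.{u} d)))ᶜ := by
  rw [Scheme.Opens.range_ι]
  rfl

end base

variable {d : ℕ}

section pts

variable {R S T : Type u} [CommRing R] [CommRing S] [CommRing T]

/-- Evaluation. -/
def ev (g : Fin d → R) : P.{u} d →+* R :=
  MvPolynomial.eval₂Hom ((Int.castRingHom R).comp (ULift.ringEquiv.toRingHom : ULift.{u} ℤ →+* ℤ)) g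

@[simp]
theorem ev_X (g : Fin d → R) (i : Fin d) : ev g (MvPolynomial.X i) = g i := by
  simp [ev]

theorem ringHom_ext' {φ ψ : P.{u} d →+* R} (h : ∀ i, φ (MvPolynomial.X i) = ψ (MvPolynomial.X i)) : φ = ψ := by
  refine MvPolynomial.ringHom_ext (fun a => ?_) h
  have h1 : (φ.comp MvPolynomial.C).comp (ULift.ringEquiv.symm.toRingHom : ℤ →+* ULift.{u} ℤ) =
      (ψ.comp MvPolynomial.C).comp (ULift.ringEquiv.symm.toRingHom : ℤ →+* ULift.{u} ℤ) := Subsingleton.elim _ _
  exact congr($h1 a.down)

theorem comp_ev (φ : R →+* S) (g : Fin d → R) : φ.comp (ev g) = ev (fun i => φ (g i)) :=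
  ringHom_ext' fun i => by simp

theorem eq_ev (φ : P.{u} d →+* R) : φ = ev (fun i => φ (MvPolynomial.X i)) :=
  ringHom_ext' fun i => by simp

/-- `Spec R` with the point `g`. -/
def pt (g : Fin d → R) : Over (Yd.{u} d) := Over.mk (Spec.map (CommRingCat.ofHom (ev g)))

@[simp] theorem pt_left (g : Fin d → R) : (pt g).left = Spec (CommRingCat.of R) := rfl

@[simp] theorem pt_hom (g : Fin d → R) : (pt g).hom = Spec.map (CommRingCat.ofHom (ev g)) := rfl

/-- The morphism of points of a ring homomorphism. -/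
def ptMap (φ : R →+* S) (g : Fin d → R) (h : Fin d → S) (w : ∀ i, φ (g i) = h i) : pt h ⟶ pt g :=
  Over.homMk (Spec.map (CommRingCat.ofHom φ)) (by
    have h1 : φ.comp (ev g) = ev h := by rw [comp_ev]; exact congrArg ev (funext w)
    change Spec.map (CommRingCat.ofHom φ) ≫ Spec.map (CommRingCat.ofHom (ev g)) = Spec.map (CommRingCat.ofHom (ev h))
    rw [← Spec.map_comp, ← CommRingCat.ofHom_comp, h1])

@[simp] theorem ptMap_left (φ : R →+* S) (g : Fin d → R) (h : Fin d → S) (w : ∀ i, φ (g i) = h i) :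
    (ptMap φ g h w).left = Spec.map (CommRingCat.ofHom φ) := rfl

theorem ptMap_comp (φ : R →+* S) (ψ : S →+* T) (g : Fin d → R) (h : Fin d → S) (k : Fin d → T)
    (w : ∀ i, φ (g i) = h i) (w' : ∀ i, ψ (h i) = k i) (w'' : ∀ i, (ψ.comp φ) (g i) = k i) :
    ptMap ψ h k w' ≫ ptMap φ g h w = ptMap (ψ.comp φ) g k w'' := by
  ext1
  change Spec.map (CommRingCat.ofHom ψ) ≫ Spec.map (CommRingCat.ofHom φ) = Spec.map (CommRingCat.ofHom (ψ.comp φ))
  rw [← Spec.map_comp, ← CommRingCat.ofHom_comp]

theorem ptMap_id (g : Fin d → R) : ptMap (RingHom.id R) g g (fun _ => rfl) = 𝟙 (pt g) := by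
  ext1
  change Spec.map (CommRingCat.ofHom (RingHom.id R)) = 𝟙 _
  rw [CommRingCat.ofHom_id, Spec.map_id]

/-- The object of a ring isomorphism. -/
def ptIso (e : R ≃+* S) (g : Fin d → R) (h : Fin d → S) (w : ∀ i, e (g i) = h i) : pt h ≅ pt g where
  hom := ptMap e.toRingHom g h w
  inv := ptMap e.symm.toRingHom h g (fun i => by rw [← w i]; exact e.symm_apply_apply _)
  hom_inv_id := by
    rw [ptMap_comp _ _ _ _ _ _ _ (fun i => e.apply_symm_apply _)]
    have h1 : e.toRingHom.comp e.symm.toRingHom = RingHom.id S := RingHom.ext fun x => e.apply_symm_apply x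
    ext1
    change Spec.map (CommRingCat.ofHom (e.toRingHom.comp e.symm.toRingHom)) = 𝟙 _
    rw [h1, CommRingCat.ofHom_id, Spec.map_id]
  inv_hom_id := by
    rw [ptMap_comp _ _ _ _ _ _ _ (fun i => e.symm_apply_apply _)]
    have h1 : e.symm.toRingHom.comp e.toRingHom = RingHom.id R := RingHom.ext fun x => e.symm_apply_apply x
    ext1
    change Spec.map (CommRingCat.ofHom (e.symm.toRingHom.comp e.toRingHom)) = 𝟙 _
    rw [h1, CommRingCat.ofHom_id, Spec.map_id]

end pts

section functor

variable {R₀ : CommRingCat.{u}} (x : Fin d → R₀)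

/-- `(R₀ ⟶ R) ↦ Spec R` with the images of `x`. -/
def ptF : (Under R₀)ᵒᵖ ⥤ Over (Yd.{u} d) where
  obj R := pt (fun i => R.unop.hom.hom (x i))
  map {R S} f := ptMap f.unop.right.hom _ _ (fun i => by
    rw [← RingHom.comp_apply, ← CommRingCat.hom_comp, Under.w f.unop])
  map_id R := ptMap_id _
  map_comp {R S T} f g :=
    (ptMap_comp g.unop.right.hom f.unop.right.hom _ _ _ _ _ (fun i =>
      congrArg (fun φ : R₀ ⟶ R.unop.right => φ.hom (x i)) (Under.w (g.unop ≫ f.unop)))).symm

theorem ptF_obj (R : Under R₀) : (ptF x).obj (op R) = pt (fun i => R.hom.hom (x i)) := rfl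

theorem ptF_map {R S : Under R₀} (f : R ⟶ S) : ((ptF x).map f.op).left = Spec.map f.right := rfl

instance preserves_ptF : PreservesLimitsOfShape WalkingCospan (ptF x) := by
  have h1 : PreservesLimitsOfShape WalkingCospan (ptF x ⋙ Over.forget (Yd.{u} d)) := by
    have h2 : ptF x ⋙ Over.forget (Yd.{u} d) = (Under.forget R₀).op ⋙ Scheme.Spec := rfl
    have h3 : PreservesLimitsOfShape WalkingCospan (Under.forget R₀).op := by
      have : PreservesColimitsOfShape (WalkingCospan)ᵒᵖ (Under.forget R₀) := by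
        have : PreservesColimitsOfShape WalkingSpan (Under.forget R₀) := inferInstance
        exact preservesColimitsOfShape_of_equiv walkingCospanOpEquiv.symm _
      exact preservesLimitsOfShape_op WalkingCospan _
    rw [h2]
    infer_instance
  exact preservesLimitsOfShape_of_reflects_of_preserves (ptF x) (Over.forget (Yd.{u} d))

end functor

section opens

variable {R : Type u} [CommRing R] (g : Fin d → R)

theorem range_fst : Set.range (pullback.fst (pt g).hom (ed.{u} d)) =
    (PrimeSpectrum.zeroLocus (Set.range g))ᶜ := by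
  have h1 := Scheme.Pullback.range_fst (pt g).hom (ed.{u} d)
  rw [h1, range_ed]
  have h2 := PrimeSpectrum.preimage_comap_zeroLocus (ev g) (Set.range (MvPolynomial.X : Fin d → P.{u} d))
  rw [← Set.range_comp] at h2
  have h3 : (ev g) ∘ (MvPolynomial.X : Fin d → P.{u} d) = g := funext fun i => ev_X g i
  rw [h3] at h2
  exact congrArg compl h2

end opens

end K152.FibPt
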