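import Groth.Agent.EtDual.K152.ExtStep
import Groth.Agent.EtDual.K152.AffPush
import Groth.Agent.Pi1A.PurityReg
import Mathlib.RingTheory.Unramified.Field

/-!
# Injectivity of `F` and `F - 1` on `Ext^d(K, G_a)` over a regular local ring of dimension `d`
-/

set_option autoImplicit false
universe u
open CategoryTheory CategoryTheory.Limits CategoryTheory.Abelian AlgebraicGeometry Opposite IsLocalRing
  TensorProduct

namespace K152.FrobInduct

open ExtStep AffPush

variable (R : Type u) [CommRing R] (K : EtCoh.Ab (Spec (CommRingCat.of R)))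

/-- Vanishing below `n` and torsion in degree `n`. -/
structure P (A : Type u) [CommRing A] [Algebra R A] [IsLocalRing A] (n : ℕ) : Prop where
  van : ∀ q < n, Subsingleton (Ext K (E R A) q)
  tors : ∀ (y : Ext K (E R A) n), ∀ a ∈ maximalIdeal A, ∃ N : ℕ, act (mulE R A (a ^ N)) y = 0

theorem pw_mulE (A : Type u) [CommRing A] [Algebra R A] (a : A) (N : ℕ) :
    pw (mulE R A a) N = mulE R A (a ^ N) := by
  induction N with
  | zero => rw [pw_zero, pow_zero, mulE_one]
  | succ N ih => rw [pw_succ', ih, mulE_mulE, pow_succ]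

section

variable (A : Type u) [CommRing A] [Algebra R A] (x : A) (hx : ∀ b : A, x * b = 0 → b = 0)

/-- The quotient map. -/
noncomputable abbrev qm : A →ₐ[R] (A ⧸ Ideal.span {x}) := Ideal.Quotient.mkₐ R (Ideal.span {x})

theorem ker_qm : RingHom.ker (qm R A x) = Ideal.span {x} := Ideal.Quotient.mkₐ_ker R _

include hx in
theorem qm_shortExact :
    (ShortComplex.mk (mulE R A x) (resE R (qm R A x)) (comp_eq_zero R (qm R A x) x (ker_qm R A x))).ShortExact :=
  shortExact R (qm R A x) (Ideal.Quotient.mkₐ_surjective R _) x (ker_qm R A x) hx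

include hx in
theorem P.quot [IsLocalRing A] {n : ℕ} [IsLocalRing (A ⧸ Ideal.span {x})] (h : P R K A (n + 1)) :
    P R K (A ⧸ Ideal.span {x}) n where
  van q hq := subsingleton₃ (qm_shortExact R A x hx) (h.van q (by omega)) (h.van (q + 1) (by omega))
  tors y a' ha' := by
    obtain ⟨a, rfl⟩ := Ideal.Quotient.mk_surjective a'
    have ha : a ∈ maximalIdeal A := by
      by_contra hcon
      exact notMem_maximalIdeal.2 ((notMem_maximalIdeal.1 hcon).map (Ideal.Quotient.mk (Ideal.span {x}))) ha'
    obtain ⟨N, hN⟩ := h.tors (conn (qm_shortExact R A x hx) y) a ha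
    refine ⟨N, ?_⟩
    let φ : ShortComplex.mk (mulE R A x) (resE R (qm R A x)) (comp_eq_zero R (qm R A x) x (ker_qm R A x)) ⟶
        ShortComplex.mk (mulE R A x) (resE R (qm R A x)) (comp_eq_zero R (qm R A x) x (ker_qm R A x)) :=
      { τ₁ := mulE R A (a ^ N)
        τ₂ := mulE R A (a ^ N)
        τ₃ := mulE R _ ((Ideal.Quotient.mk (Ideal.span {x}) a) ^ N)
        comm₁₂ := by
          change mulE R A (a ^ N) ≫ mulE R A x = mulE R A x ≫ mulE R A (a ^ N)
          rw [mulE_mulE, mulE_mulE, mul_comm]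
        comm₂₃ := by
          change mulE R A (a ^ N) ≫ resE R (qm R A x) = resE R (qm R A x) ≫ _
          rw [mulE_resE]
          rfl }
    exact act_eq_zero_of_conn (qm_shortExact R A x hx) φ (h.van n (by omega)) y hN

end

theorem etale_of_etale (B : Type u) [CommRing B] [Algebra R B] [AlgebraicGeometry.Etale (sp R B)] :
    Algebra.Etale R B := by
  have h1 : AlgebraicGeometry.Etale (sp R B) := inferInstance
  rw [HasRingHomProperty.Spec_iff (P := @AlgebraicGeometry.Etale)] at h1
  exact (RingHom.etale_algebraMap (R := R) (S := B)).1 h1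

theorem isReduced_tensor (k : Type u) [Field k] [Algebra R k] (B : Type u) [CommRing B] [Algebra R B]
    [AlgebraicGeometry.Etale (sp R B)] : IsReduced (B ⊗[R] k) := by
  have := etale_of_etale R B
  have h1 : IsReduced (k ⊗[R] B) := Algebra.FormallyUnramified.isReduced_of_field k (k ⊗[R] B)
  exact isReduced_of_injective (Algebra.TensorProduct.comm R B k).toRingHom
    (Algebra.TensorProduct.comm R B k).injective

/-- Over a field the Frobenius is a monomorphism. -/
theorem mono_frobE (k : Type u) [CommRing k] (hk : IsField k) [Algebra R k] {p : ℕ} [Fact p.Prime] (h : (p : k) = 0) :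
    Mono (frobE R k h) := by
  let _ := hk.toField
  refine Groth.Agent.CurvesA.ArtinSchreier.mono_of_injective _ (fun U s hs => ?_)
  refine Groth.Agent.Etbase.EtSite.sect_eq_zero _ U s (fun x => ?_)
  obtain ⟨B, _, _, _, g, v, hv⟩ := exists_VB R U x
  refine ⟨VB R B, g, v, hv, σ_ext R k B ?_⟩
  have h1 := nat_app R (frobE R k h) g s
  have h2 : (frobE R k h).hom.app (op U) s = 0 := hs
  rw [h2, map_zero] at h1
  have h3 := σ_frobE R k B h ((E R k).obj.map g.op s)
  rw [h1, σ_zero] at h3
  have := isReduced_tensor R k B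
  rw [σ_zero]
  exact pow_eq_zero_iff (Fact.out : p.Prime).ne_zero |>.1 h3.symm

/-- **Injectivity of the Frobenius.** -/
theorem frob_inj {p : ℕ} [Fact p.Prime] (n : ℕ) : ∀ (A : Type u) [CommRing A] [Algebra R A] [IsRegularLocalRing A]
    (h : (p : A) = 0) (_ : ringKrullDim A = n) (_ : P R K A n) (y : Ext K (E R A) n)
    (_ : act (frobE R A h) y = 0), y = 0 := by
  induction n with
  | zero =>
    intro A _ _ _ h hd hP y hy
    have hk : IsField A := by
      have h0 := IsRegularLocalRing.spanFinrank_maximalIdeal (R := A)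
      rw [hd] at h0
      have h1 : (maximalIdeal A).spanFinrank = 0 := by exact_mod_cast h0
      rw [isField_iff_maximalIdeal_eq]
      exact (Submodule.spanFinrank_eq_zero_iff_eq_bot (maximalIdeal A).fg_of_isNoetherianRing).1 h1
    have := mono_frobE R A hk h
    obtain ⟨z, rfl⟩ := Ext.addEquiv₀.symm.surjective y
    have h1 : Ext.mk₀ (z ≫ frobE R A h) = 0 := (Ext.mk₀_comp_mk₀ z (frobE R A h)).symm.trans hy
    have h2 : z ≫ frobE R A h = 0 := (Ext.mk₀_eq_zero_iff _).1 h1
    have h3 : z = 0 := zero_of_comp_mono _ h2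
    rw [h3, map_zero]
  | succ n ih =>
    intro A _ _ _ h hd hP y hy
    obtain ⟨x, hx, hx0, hreg, hd'⟩ := Groth.Agent.Pi1A.Purity.exists_param A hd
    have := Groth.Agent.CalgA.RegBasic.isDomain A
    have hx1 : ∀ b : A, x * b = 0 → b = 0 := fun b hb => (mul_eq_zero.1 hb).resolve_left hx0
    have h' : (p : A ⧸ Ideal.span {x}) = 0 := by
      have := congrArg (Ideal.Quotient.mk (Ideal.span {x})) h
      rwa [map_natCast, map_zero] at this
    refine frob_injective (p := p) (Fact.out : p.Prime).two_le (x := mulE R A x) (F := frobE R A h)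
      ?_ (F' := frobE R _ h') (π := resE R (qm R A x)) (frobE_resE R h h' _) _ (qm_shortExact R A x hx1)
      (hP.van n (by omega)) (ih _ h' hd' (P.quot R K A x hx1 hP)) ?_ y hy
    · rw [pw_mulE, mulE_frobE]
    · intro y
      obtain ⟨N, hN⟩ := hP.tors y x hx
      exact ⟨N, by rw [pw_mulE]; exact hN⟩

/-- **`F - 1` is injective.** -/
theorem fixed_eq_zero {p : ℕ} [Fact p.Prime] (n : ℕ) (A : Type u) [CommRing A] [Algebra R A] [IsRegularLocalRing A]
    (h : (p : A) = 0) (hd : ringKrullDim A = (n + 1 : ℕ)) (hP : P R K A (n + 1)) (y : Ext K (E R A) (n + 1))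
    (hy : act (frobE R A h) y = y) : y = 0 := by
  obtain ⟨x, hx, hx0, hreg, hd'⟩ := Groth.Agent.Pi1A.Purity.exists_param A hd
  have := Groth.Agent.CalgA.RegBasic.isDomain A
  have hx1 : ∀ b : A, x * b = 0 → b = 0 := fun b hb => (mul_eq_zero.1 hb).resolve_left hx0
  have h' : (p : A ⧸ Ideal.span {x}) = 0 := by
    have := congrArg (Ideal.Quotient.mk (Ideal.span {x})) h
    rwa [map_natCast, map_zero] at this
  refine eq_zero_of_fixed (p := p) (Fact.out : p.Prime).two_le (x := mulE R A x) (F := frobE R A h)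
    ?_ (F' := frobE R _ h') (π := resE R (qm R A x)) (frobE_resE R h h' _) _ (qm_shortExact R A x hx1)
    (hP.van n (by omega)) (frob_inj R K n _ h' hd' (P.quot R K A x hx1 hP)) ?_ y hy
  · rw [pw_mulE, mulE_frobE]
  · intro y
    obtain ⟨N, hN⟩ := hP.tors y x hx
    exact ⟨N, by rw [pw_mulE]; exact hN⟩

end K152.FrobInduct
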