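import Groth.Agent.EtDual.K152.GaPunct
import Groth.Agent.EtDual.K152.FrobInduct

/-!
# `G_a = E R R` and the vanishing of `Ext^i(K, ℤ/p)`
-/

set_option autoImplicit false
universe u
open CategoryTheory CategoryTheory.Limits CategoryTheory.Abelian AlgebraicGeometry Opposite IsLocalRing

namespace K152.GaE

open Groth.Agent.Sga4h LocExt ExtStep ExtU Groth.Agent.Etbase AffPush GaPunct FrobInduct

section iso

variable (R : Type u) [CommRing R]

theorem sp_self : sp R R = 𝟙 _ := Spec.map_id (CommRingCat.of R)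

instance : IsIso (sp R R) := by rw [sp_self]; infer_instance

theorem isIso_fst (V : (Spec (CommRingCat.of R)).Etale) : IsIso (pullback.fst V.hom (sp R R)) :=
  inferInstance

/-- `G_a ⟶ E R R`. -/
noncomputable def ε : EtCoh.Ga (Spec (CommRingCat.of R)) ⟶ E R R where
  hom :=
    { app := fun V => AddCommGrpCat.ofHom
        ((AddEquiv.ulift.symm.toAddMonoidHom.comp
          ((pullback.fst V.unop.hom (sp R R)).appTop).hom.toAddMonoidHom).comp
            AddEquiv.ulift.toAddMonoidHom :
              ULift.{u + 1} Γ(V.unop.left, ⊤) →+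
                ULift.{u + 1} Γ((pullback V.unop.hom (sp R R) : Scheme.{u}), ⊤))
      naturality := by
        intro V W f
        ext s
        apply ULift.ext
        let t : Γ(V.unop.left, ⊤) := s.down
        change (pullback.fst W.unop.hom (sp R R)).appTop (f.unop.left.appTop t) =
          (((EtCoh.bc (sp R R)).map f.unop).left.appTop).hom ((pullback.fst V.unop.hom (sp R R)).appTop t)
        have h := congrArg (fun φ => φ.appTop) (bc_map_fst (sp R R) f.unop)
        simp only [Scheme.Hom.comp_appTop] at h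
        exact (congrArg (fun φ => φ.hom t) h).symm }

theorem ε_app (V : (Spec (CommRingCat.of R)).Etale) (s : ULift.{u + 1} Γ(V.left, ⊤)) :
    (ε R).hom.app (op V) s = (ULift.up ((pullback.fst V.hom (sp R R)).appTop s.down) :
      ULift.{u + 1} Γ((pullback V.hom (sp R R) : Scheme.{u}), ⊤)) := rfl

theorem ε_bijective (V : (Spec (CommRingCat.of R)).Etale) : Function.Bijective ((ε R).hom.app (op V)) := by
  have h1 : Function.Bijective (pullback.fst V.hom (sp R R)).appTop := by
    have : IsIso (pullback.fst V.hom (sp R R)).appTop :=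
      inferInstanceAs (IsIso ((pullback.fst V.hom (sp R R)).app ⊤))
    exact ConcreteCategory.bijective_of_isIso _
  exact ULift.up_bijective.comp (h1.comp ULift.down_bijective)

instance : IsIso (ε R) := by
  have h : IsIso ((sheafToPresheaf _ AddCommGrpCat.{u + 1}).map (ε R)) := by
    rw [NatTrans.isIso_iff_isIso_app]
    intro V
    rw [ConcreteCategory.isIso_iff_bijective]
    exact ε_bijective R V.unop
  exact isIso_of_reflects_iso (ε R) (sheafToPresheaf _ AddCommGrpCat.{u + 1})

theorem gaMul_ε (a : R) : AsFin.gaMul _ (gl R a) ≫ ε R = ε R ≫ mulE R R a := by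
  apply Sheaf.hom_ext
  ext V s
  apply ULift.ext
  let t : Γ(V.unop.left, ⊤) := s.down
  change (pullback.fst V.unop.hom (sp R R)).appTop ((show Γ(V.unop.left, ⊤) from
      V.unop.hom.appTop (gl R a)) * t) =
    (show Γ((pullback V.unop.hom (sp R R) : Scheme.{u}), ⊤) from
      (pullback.snd V.unop.hom (sp R R)).appTop ((Scheme.ΓSpecIso (CommRingCat.of R)).inv a)) *
      (pullback.fst V.unop.hom (sp R R)).appTop t
  rw [map_mul]
  congr 1
  have h1 : pullback.fst V.unop.hom (sp R R) ≫ V.unop.hom = pullback.snd V.unop.hom (sp R R) := by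
    refine (pullback.condition (f := V.unop.hom) (g := sp R R)).trans ?_
    rw [sp_self]
    exact Category.comp_id _
  have h2 := congrArg (fun φ => φ.appTop) h1
  simp only [Scheme.Hom.comp_appTop] at h2
  exact congrArg (fun φ => φ.hom (gl R a)) h2

theorem frobMap_ε {p : ℕ} [Fact p.Prime] (h : (p : R) = 0) :
    AsFin.frobMap _ p (cast_eq_zero R h) ≫ ε R = ε R ≫ frobE R R h := by
  apply Sheaf.hom_ext
  ext V s
  refine (congrArg ((ε R).hom.app V) (AsFin.frobMap_app _ p (cast_eq_zero R h) V.unop s)).trans ?_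
  refine Eq.trans ?_ (AsFin.frobMap_app _ p (cast_eq_zero R h) ((EtCoh.bc (sp R R)).obj V.unop)
    ((ε R).hom.app V s)).symm
  apply ULift.ext
  exact map_pow (pullback.fst V.unop.hom (sp R R)).appTop.hom _ _

end iso

variable (R : Type u) [CommRing R] [IsNoetherianRing R] [HenselianLocalRing R] [IsSepClosed (ResidueField R)]

omit [IsNoetherianRing R] [HenselianLocalRing R] [IsSepClosed (ResidueField R)] in
theorem act_injective {𝒦 : EtCoh.Ab (Spec (CommRingCat.of R))} {F G : EtCoh.Ab (Spec (CommRingCat.of R))}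
    (e : F ≅ G) {n : ℕ} (y : Ext 𝒦 F n) (h : act e.hom y = 0) : y = 0 := by
  have h1 : act e.inv (act e.hom y) = y := by rw [act_act, e.hom_inv_id, act_id]
  rw [← h1, h, act_zero]

theorem P_self (n : ℕ) (hd : LocCoh.depth R R = (n + 1 : ℕ)) : P R (K (jp R)) R (n + 1) where
  van q hq := by
    have h1 := van_Ga R (n + 1) hd q hq
    refine subsingleton_of_forall_eq 0 (fun y => ?_)
    exact act_injective R (asIso (ε R)).symm y (h1.elim _ _)
  tors y a ha := by
    obtain ⟨N, hN⟩ := tors_Ga R n (act (inv (ε R)) y) a ha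
    refine ⟨N, ?_⟩
    have h1 : mulE R R (a ^ N) = inv (ε R) ≫ AsFin.gaMul _ (gl R a ^ N) ≫ ε R := by
      have h2 : gl R a ^ N = gl R (a ^ N) := (map_pow _ _ _).symm
      rw [h2, gaMul_ε, IsIso.inv_hom_id_assoc]
    rw [h1, ← act_act, ← act_act, hN, act_zero]

/-- Vanishing of `Ext^i(K, ℤ/p)` below the depth. -/
theorem subsingleton_const (p : ℕ) [Fact p.Prime] [CharP R p] (d : ℕ) (hd : LocCoh.depth R R = d) (i : ℕ)
    (hi : i < d) : Subsingleton (Ext (K (jp R)) (EtCoh.const (Spec (CommRingCat.of R)) (ZMod p)) i) := by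
  have hp : (p : R) = 0 := CharP.cast_eq_zero R p
  have hS := Groth.Agent.CurvesA.ArtinSchreier.shortExact (Spec (CommRingCat.of R)) p (cast_eq_zero R hp)
  cases i with
  | zero =>
    have h1 := van_Ga R d hd 0 hi
    refine subsingleton_of_forall_eq 0 (fun y => ?_)
    obtain ⟨φ, rfl⟩ := Ext.addEquiv₀.symm.surjective y
    have h2 : Ext.mk₀ (φ ≫ Groth.Agent.CurvesA.ArtinSchreier.constMap _ p (cast_eq_zero R hp)) =
        (0 : Ext (K (jp R)) (EtCoh.Ga (Spec (CommRingCat.of R))) 0) := h1.elim _ _
    have h3 := (Ext.mk₀_eq_zero_iff _).1 h2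
    have h4 : φ = 0 := zero_of_comp_mono _ h3
    rw [h4, map_zero]
  | succ m => exact subsingleton₁ hS (fun k hk => by
      obtain rfl : k = m := by omega
      exact van_Ga R d hd k (by omega)) (van_Ga R d hd (m + 1) hi) (by omega)

/-- Vanishing of `Ext^d(K, ℤ/p)` for a regular ring of dimension `d > 0`. -/
theorem subsingleton_const_top (p : ℕ) [Fact p.Prime] [CharP R p] (hreg : IsRegularLocalRing R) (n : ℕ)
    (hdim : ringKrullDim R = (n + 1 : ℕ)) (hd : LocCoh.depth R R = (n + 1 : ℕ)) :
    Subsingleton (Ext (K (jp R)) (EtCoh.const (Spec (CommRingCat.of R)) (ZMod p)) (n + 1)) := by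
  have hp : (p : R) = 0 := CharP.cast_eq_zero R p
  have hS := Groth.Agent.CurvesA.ArtinSchreier.shortExact (Spec (CommRingCat.of R)) p (cast_eq_zero R hp)
  refine subsingleton_of_forall_eq 0 (fun y => ?_)
  have h1 : act (Groth.Agent.CurvesA.ArtinSchreier.constMap _ p (cast_eq_zero R hp)) y = 0 := by
    set w := act (Groth.Agent.CurvesA.ArtinSchreier.constMap _ p (cast_eq_zero R hp)) y with hw
    have h2 : act (Groth.Agent.CurvesA.ArtinSchreier.asMap _ p (cast_eq_zero R hp)) w = 0 := by
      rw [hw, act_act, Groth.Agent.CurvesA.ArtinSchreier.constMap_comp_asMap, act, Ext.mk₀_zero, Ext.comp_zero]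
    have h3 : act (AsFin.frobMap _ p (cast_eq_zero R hp)) w = w := by
      have : act (AsFin.frobMap _ p (cast_eq_zero R hp)) w =
        act (Groth.Agent.CurvesA.ArtinSchreier.asMap _ p (cast_eq_zero R hp)) w + act (𝟙 _) w := by
        rw [act, act, act, AsFin.frobMap, Ext.mk₀_add, Ext.comp_add]
      rw [this, h2, act_id, zero_add]
    apply act_injective R (asIso (ε R))
    apply fixed_eq_zero R (K (jp R)) n R hp hdim (P_self R n hd)
    rw [asIso_hom, act_act, ← frobMap_ε, ← act_act, h3]
  obtain ⟨z, rfl⟩ := Ext.covariant_sequence_exact₁ _ hS y h1 rfl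
  rw [(van_Ga R (n + 1) hd n (by omega)).elim z 0, Ext.zero_comp]

end K152.GaE
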