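import Groth.Agent.Etbase.GaZarLin
import Groth.Agent.Ega1.LocH684
import Groth.Agent.CohqA.HOpen
import Groth.Agent.FormalB.MonoMu
import Groth.Agent.S0356
import Groth.Agent.S0318
import Groth.Agent.CurvesC.UnitCoh
import Groth.Prelude.Def_FEt

/-!
# Étale cohomology of `G_a`: torsion and vanishing

* `tors_H_Ga` : `H^q(W, G_a)` is `r`-power torsion (`q ≥ 1`) if `W_r` is affine;
* `subsingleton_H_Ga` : `H^q(U, G_a) = 0`, `0 < q < depth R - 1`, `U` the punctured spectrum.
-/

set_option autoImplicit false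
universe u
open CategoryTheory CategoryTheory.Limits CategoryTheory.Abelian AlgebraicGeometry Opposite

namespace K152.GaTors

open Groth.Agent.Etbase Groth.Agent.FormalA.HUBasic Groth.Agent.CohqA.HOpen

theorem tors_HH (W : Scheme.{u}) [CompactSpace W] [QuasiSeparatedSpace W] (r : Γ(W, ⊤))
    (hr : IsAffineOpen (W.basicOpen r)) (q : ℕ) (x : Coh.HH W (Coh.structureModule W) (q + 1)) :
    ∃ N : ℕ, Sheaf.H.map (Coh.smulAb (Coh.structureModule W) (r ^ N)) (q + 1) x = 0 := by
  have hM : Coh.IsQCoh (Coh.structureModule W) := Groth.Agent.CurvesC.UnitCoh.isQCoh_unit W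
  have hok := Groth.Agent.Ega1.LocH684.ok_top (Coh.structureModule W) hM r
  have h1 := Groth.Agent.Ega1.LocH684.subsingleton_E (Coh.structureModule W) hM hr q
  obtain ⟨N, hN⟩ := hok.inj (q + 1)
    (toE (Coh.toAb (Coh.structureModule W)) (q + 1) ⊤ (HHTopEquiv (Coh.structureModule W) (q + 1) x))
    (h1.elim _ _)
  refine ⟨N, ?_⟩
  rw [Groth.Agent.Ega1.LocH684.act_mulE, ← toE_HUmap] at hN
  have h2 := (toE (Coh.toAb (Coh.structureModule W)) (q + 1) ⊤).injective (hN.trans (map_zero _).symm)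
  have h3 : HHTopEquiv (Coh.structureModule W) (q + 1)
      (Sheaf.H.map (Coh.smulAb (Coh.structureModule W) (r ^ N)) (q + 1) x) =
    CohTop.HUmap (Coh.smulAb (Coh.structureModule W) (r ^ N)) (q + 1) ⊤
      (HHTopEquiv (Coh.structureModule W) (q + 1) x) :=
    Groth.Agent.CohtopA.HTop.HAddEquiv_map _ _ (q + 1) _ x
  exact (HHTopEquiv (Coh.structureModule W) (q + 1)).injective ((h3.trans h2).trans (map_zero _).symm)

theorem tors_H_Ga (W : Scheme.{u}) [CompactSpace W] [QuasiSeparatedSpace W] (r : Γ(W, ⊤))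
    (hr : IsAffineOpen (W.basicOpen r)) (q : ℕ) (x : EtCoh.H W (EtCoh.Ga W) (q + 1)) :
    ∃ N : ℕ, Sheaf.H.map (AsFin.gaMul W (r ^ N)) (q + 1) x = 0 := by
  obtain ⟨y, rfl⟩ := (GaZar.gaEquiv W (q + 1)).surjective x
  obtain ⟨N, hN⟩ := tors_HH W r hr q y
  refine ⟨N, ?_⟩
  rw [← GaZar.gaEquiv_smul, hN, map_zero]

theorem subsingleton_of_iso {X : Scheme.{u}} {M N : X.Modules} (e : M ≅ N) (p : ℕ)
    (h : Subsingleton (Coh.HH X M p)) : Subsingleton (Coh.HH X N p) := by
  let e' : Coh.toAb M ≅ Coh.toAb N := (SheafOfModules.toSheaf X.ringCatSheaf).mapIso e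
  refine subsingleton_of_forall_eq 0 fun x ↦ ?_
  have h1 : x = Sheaf.H.map e'.hom p (Sheaf.H.map e'.inv p x) := by
    rw [← Sheaf.H.map_comp_apply, e'.inv_hom_id, Sheaf.H.map_id_apply]
  rw [h1, h.elim (Sheaf.H.map e'.inv p x) 0, map_zero]

theorem puncturedSpec_eq (A : Type u) [CommRing A] [IsLocalRing A] :
    FEt.puncturedSpec A = LocCoh.puncturedOpen A (IsLocalRing.maximalIdeal A) := by
  apply TopologicalSpace.Opens.ext
  change ({IsLocalRing.closedPoint A}ᶜ : Set (PrimeSpectrum A)) =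
    (PrimeSpectrum.zeroLocus (R := A) (IsLocalRing.maximalIdeal A : Set A))ᶜ
  congr 1
  ext x
  rw [Set.mem_singleton_iff, PrimeSpectrum.mem_zeroLocus]
  constructor
  · rintro rfl
    exact le_rfl
  · intro h
    apply PrimeSpectrum.ext
    exact ((IsLocalRing.maximalIdeal.isMaximal A).eq_of_le x.isPrime.ne_top h).symm

theorem subsingleton_HH_aux (R : Type u) [CommRing R] [IsNoetherianRing R] (I : Ideal R)
    (U : (Spec (CommRingCat.of R)).Opens) (hU : U = LocCoh.puncturedOpen R I) (q : ℕ)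
    (h : Subsingleton (LocCoh.H I (q + 2) R)) :
    Subsingleton (Coh.HH (U : Scheme.{u}) (Coh.structureModule (U : Scheme.{u})) (q + 1)) := by
  subst hU
  obtain ⟨e⟩ := Groth.Agent.S0356.result R I R (q + 1) (by omega)
  have h1 : Subsingleton (Coh.HH (↑(LocCoh.puncturedOpen R I))
      ((AlgebraicGeometry.tilde (R := CommRingCat.of R) (ModuleCat.of R R)).restrict
        (LocCoh.puncturedOpen R I).ι) (q + 1)) := e.toEquiv.subsingleton
  exact subsingleton_of_iso (Groth.Agent.FormalB.MonoMu.thetaUnit (LocCoh.puncturedOpen R I)) (q + 1) h1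

theorem subsingleton_H_Ga (R : Type u) [CommRing R] [IsNoetherianRing R] [IsLocalRing R] (d : ℕ)
    (hd : LocCoh.depth R R = d) (q : ℕ) (h : q + 2 < d) :
    Subsingleton (EtCoh.H (FEt.puncturedSpec R : Scheme.{u}) (EtCoh.Ga (FEt.puncturedSpec R : Scheme.{u})) (q + 1)) := by
  have hne : (IsLocalRing.maximalIdeal R) • (⊤ : Submodule R R) ≠ ⊤ := by
    rw [smul_eq_mul, Ideal.mul_top]
    exact Ideal.IsPrime.ne_top'
  have h1 : Subsingleton (LocCoh.H (IsLocalRing.maximalIdeal R) (q + 2) R) :=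
    ((Groth.Agent.S0318.result R (IsLocalRing.maximalIdeal R) R hne d).1 hd).1 _ h
  have h2 := subsingleton_HH_aux R (IsLocalRing.maximalIdeal R) (FEt.puncturedSpec R) (puncturedSpec_eq R) q h1
  exact (GaZar.gaEquiv (FEt.puncturedSpec R : Scheme.{u}) (q + 1)).symm.toEquiv.subsingleton

end K152.GaTors
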