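import Groth.Agent.EtDual.K152.ExtU
import Groth.Agent.EtDual.K152.GaTors
import Groth.Agent.Pi1A.DepthPunctured
import Groth.Agent.CalgA.DepthSmall
import Groth.Agent.Pi1B.Hartogs
import Groth.Agent.S0073

/-!
# `Ext^q(K, G_a)` for the punctured spectrum of a local ring

Vanishing for `q < depth` and torsion.
-/

set_option autoImplicit false
universe u
open CategoryTheory CategoryTheory.Limits CategoryTheory.Abelian AlgebraicGeometry Opposite IsLocalRing

namespace K152.GaPunct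

open Groth.Agent.Sga4h Groth.Agent.Sga4h.HYRestr LocExt ExtStep ExtU Groth.Agent.Etbase

theorem mU_left {X U : Scheme.{u}} (j : U ⟶ X) [IsOpenImmersion j] : (mU j).left = j :=
  Category.id_comp j

theorem Ga_mU {X U : Scheme.{u}} (j : U ⟶ X) [IsOpenImmersion j] (s : ULift.{u + 1} Γ(X, ⊤)) :
    (EtCoh.Ga X).obj.map (mU j).op s = (ULift.up (j.appTop s.down) : ULift.{u + 1} Γ(U, ⊤)) := by
  apply ULift.ext
  change (mU j).left.appTop s.down = j.appTop s.down
  exact congrArg (fun f : U ⟶ X => f.appTop s.down) (mU_left j)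

section punct

variable (R : Type u) [CommRing R] [IsLocalRing R]

/-- The inclusion of the punctured spectrum. -/
noncomputable abbrev jp : (FEt.puncturedSpec R : Scheme.{u}) ⟶ Spec (CommRingCat.of R) := (FEt.puncturedSpec R).ι

/-- `x` as a global function. -/
noncomputable abbrev gl (x : R) : Γ(Spec (CommRingCat.of R), ⊤) := (Scheme.ΓSpecIso (CommRingCat.of R)).inv x

theorem preimage_basicOpen (x : R) :
    (FEt.puncturedSpec R : Scheme.{u}).basicOpen ((jp R).appTop (gl R x)) =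
      (jp R) ⁻¹ᵁ (PrimeSpectrum.basicOpen x) := by
  rw [← Scheme.preimage_basicOpen_top]
  congr 1
  exact basicOpen_eq_of_affine (R := CommRingCat.of R) x

theorem isAffine_basicOpen (x : R) (hx : x ∈ maximalIdeal R) :
    IsAffineOpen ((FEt.puncturedSpec R : Scheme.{u}).basicOpen ((jp R).appTop (gl R x))) := by
  have h1 := Groth.Agent.Pi1A.DepthPunctured.basicOpen_le_puncturedSpec R x hx
  have h2 : IsAffineOpen ((Spec (CommRingCat.of R)).basicOpen (gl R x)) :=
    (isAffineOpen_top _).basicOpen _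
  rw [← Scheme.preimage_basicOpen_top]
  refine h2.preimage_of_isOpenImmersion (jp R) ?_
  rw [Scheme.Opens.opensRange_ι]
  exact h1

section res

open Groth.Agent.Pi1B.Hartogs

theorem res_torsion {X : Scheme.{u}} (hX : IsAffineOpen (⊤ : X.Opens)) (f : Γ(X, ⊤)) (W : X.Opens)
    (hD : X.basicOpen f ≤ W) (s : Γ(X, ⊤)) (hs : res X (le_top : W ≤ ⊤) s = 0) : ∃ N : ℕ, f ^ N * s = 0 := by
  refine exists_pow_mul_eq_zero_of_res_basicOpen_eq_zero_of_isAffineOpen X hX s f ?_
  change res X (le_top : X.basicOpen f ≤ ⊤) s = 0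
  rw [← res_res X (le_top : W ≤ ⊤) hD, hs, map_zero]

theorem res_extend {X : Scheme.{u}} (hX : IsAffineOpen (⊤ : X.Opens)) (f : Γ(X, ⊤)) (W : X.Opens)
    (hW : IsCompact (W : Set X)) (hD : X.basicOpen f ≤ W) (t : Γ(X, W)) :
    ∃ (N : ℕ) (s : Γ(X, ⊤)), res X (le_top : W ≤ ⊤) s = res X (le_top : W ≤ ⊤) f ^ N * t := by
  obtain ⟨n, y, hy⟩ := exists_eq_pow_mul_of_isAffineOpen X ⊤ hX f (res X hD t)
  have hy' : res X (le_top : X.basicOpen f ≤ ⊤) y =
      res X (le_top : X.basicOpen f ≤ ⊤) f ^ n * res X hD t := hy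
  have hle : X.basicOpen (res X (le_top : W ≤ ⊤) f) ≤ X.basicOpen f := by
    rw [basicOpen_res']; exact inf_le_right
  obtain ⟨M, hM⟩ := exists_pow_mul_eq_zero_of_res_basicOpen_eq_zero_of_isCompact X hW
    (res X (le_top : W ≤ ⊤) y - res X (le_top : W ≤ ⊤) f ^ n * t) (res X (le_top : W ≤ ⊤) f) (by
      change res X (X.basicOpen_le _) _ = 0
      have h1 := congrArg (res X hle) hy'
      rw [map_mul, map_pow, res_res, res_res, res_res] at h1
      rw [map_sub, map_mul, map_pow, res_res, res_res, sub_eq_zero]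
      exact h1)
  refine ⟨M + n, f ^ M * y, ?_⟩
  rw [map_mul, map_pow, pow_add]
  rw [mul_sub, sub_eq_zero, ← mul_assoc] at hM
  exact hM

end res

theorem jp_appTop : (jp R).appTop.hom = Groth.Agent.Pi1B.Hartogs.res (Spec (CommRingCat.of R))
    (le_top : (FEt.puncturedSpec R).ι ''ᵁ ⊤ ≤ ⊤) := by
  rw [Scheme.Opens.ι_appTop]
  rfl

theorem image_top : (FEt.puncturedSpec R).ι ''ᵁ ⊤ = FEt.puncturedSpec R := by simp

theorem basicOpen_le (x : R) (hx : x ∈ maximalIdeal R) :
    (Spec (CommRingCat.of R)).basicOpen (gl R x) ≤ (FEt.puncturedSpec R).ι ''ᵁ ⊤ := by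
  rw [image_top]
  exact Groth.Agent.Pi1A.DepthPunctured.basicOpen_le_puncturedSpec R x hx

/-- A function on `Spec R` vanishing on `U` is `x`-torsion. -/
theorem exists_pow_mul_eq_zero (x : R) (hx : x ∈ maximalIdeal R) (s : Γ(Spec (CommRingCat.of R), ⊤))
    (hs : (jp R).appTop s = 0) : ∃ N : ℕ, gl R x ^ N * s = 0 := by
  refine res_torsion (isAffineOpen_top _) (gl R x) _ (basicOpen_le R x hx) s ?_
  rw [← jp_appTop]
  exact hs

theorem injective_appTop [IsNoetherianRing R] (h : 1 ≤ LocCoh.depth R R) :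
    Function.Injective (jp R).appTop := by
  obtain ⟨x, hx, hreg⟩ := (Groth.Agent.CalgA.DepthSmall.one_le_depth_iff (R := R) (M := R)).1 h
  rw [injective_iff_map_eq_zero]
  intro s hs
  obtain ⟨N, hN⟩ := exists_pow_mul_eq_zero R x hx s hs
  obtain ⟨a, rfl⟩ := (ConcreteCategory.bijective_of_isIso (Scheme.ΓSpecIso (CommRingCat.of R)).inv).2 s
  have h1 : (Scheme.ΓSpecIso (CommRingCat.of R)).inv (x ^ N * a) = 0 := by
    rw [map_mul, map_pow]; exact hN
  have h2 : x ^ N * a = 0 := (ConcreteCategory.bijective_of_isIso (Scheme.ΓSpecIso (CommRingCat.of R)).inv).1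
    (h1.trans (map_zero _).symm)
  have h3 : a = 0 := (hreg.pow N) (by simpa using h2)
  rw [h3, map_zero]

theorem bijective_appTop (h : 2 ≤ LocCoh.depth R R) : Function.Bijective (jp R).appTop := by
  have h2 := Groth.Agent.Pi1A.DepthPunctured.bijective_res_puncturedSpec R h (𝟙 (Spec (CommRingCat.of R))) ⊤
  rw [Scheme.Opens.ι_appTop]
  have key : ∀ (W W' : (Spec (CommRingCat.of R)).Opens) (hW : W = W') (h : W ≤ ⊤) (h' : W' ≤ ⊤),
      Function.Bijective ((Spec (CommRingCat.of R)).presheaf.map (homOfLE h').op).hom →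
      Function.Bijective ((Spec (CommRingCat.of R)).presheaf.map (homOfLE h).op).hom := by
    rintro W _ rfl h h' H
    exact H
  refine key _ _ ?_ _ _ h2
  simp

/-- Functions on `U` extend up to `x`-torsion. -/
theorem exists_extend [IsNoetherianRing R] (x : R) (hx : x ∈ maximalIdeal R)
    (t : Γ((FEt.puncturedSpec R : Scheme.{u}), ⊤)) :
    ∃ (N : ℕ) (s : Γ(Spec (CommRingCat.of R), ⊤)), (jp R).appTop s = (jp R).appTop (gl R x) ^ N * t := by
  have hc : IsCompact (((FEt.puncturedSpec R).ι ''ᵁ ⊤ : (Spec (CommRingCat.of R)).Opens) :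
      Set (Spec (CommRingCat.of R))) := by
    have : TopologicalSpace.NoetherianSpace (Spec (CommRingCat.of R)) :=
      inferInstanceAs (TopologicalSpace.NoetherianSpace (PrimeSpectrum R))
    exact TopologicalSpace.NoetherianSpace.isCompact _
  obtain ⟨N, s, hs⟩ := res_extend (isAffineOpen_top _) (gl R x) _ hc (basicOpen_le R x hx) t
  refine ⟨N, s, ?_⟩
  have h1 := jp_appTop R
  change (jp R).appTop.hom s = (jp R).appTop.hom (gl R x) ^ N * t
  rw [h1]
  exact hs

end punct

theorem H_map_hom_inv {X : Scheme.{u}} {F G : EtCoh.Ab X} (e : F ≅ G) (n : ℕ) (x : EtCoh.H X F n) :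
    Sheaf.H.map e.inv n (Sheaf.H.map e.hom n x) = x := by
  rw [← Sheaf.H.map_comp_apply, e.hom_inv_id, Sheaf.H.map_id_apply]

theorem subsingleton_H_of_iso {X : Scheme.{u}} {F G : EtCoh.Ab X} (e : F ≅ G) (n : ℕ)
    (h : Subsingleton (EtCoh.H X G n)) : Subsingleton (EtCoh.H X F n) := by
  refine subsingleton_of_forall_eq 0 (fun x => ?_)
  have h1 : x = Sheaf.H.map e.inv n (Sheaf.H.map e.hom n x) := by
    rw [← Sheaf.H.map_comp_apply, e.hom_inv_id, Sheaf.H.map_id_apply]
  rw [h1, h.elim (Sheaf.H.map e.hom n x) 0, map_zero]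

theorem gaMul_restr {X U : Scheme.{u}} (j : U ⟶ X) [IsOpenImmersion j] (c : Γ(X, ⊤)) :
    (EtShriek.restrAlong j).map (AsFin.gaMul X c) ≫ (EtaleRes2.GaRestr j).hom =
      (EtaleRes2.GaRestr j).hom ≫ AsFin.gaMul U (j.appTop c) := by
  apply Sheaf.hom_ext
  ext V s
  apply ULift.ext
  let t : Γ(V.unop.left, ⊤) := s.down
  change (show Γ(V.unop.left, ⊤) from AsFin.res X ((EtShriek.compEtale j).obj V.unop) c) * t =
    AsFin.res U V.unop (j.appTop c) * t
  exact congrArg (fun r : Γ(V.unop.left, ⊤) => r * t)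
    (congrArg (fun t => t.hom c) (Scheme.Hom.comp_appTop V.unop.hom j))

variable (R : Type u) [CommRing R] [IsNoetherianRing R] [HenselianLocalRing R] [IsSepClosed (ResidueField R)]

theorem van_Ga (d : ℕ) (hd : LocCoh.depth R R = d) (q : ℕ) (hq : q < d) :
    Subsingleton (Ext (K (jp R)) (EtCoh.Ga (Spec (CommRingCat.of R))) q) := by
  match q, hq with
  | 0, hq =>
    refine subsingleton_zero (fun s hs => ?_)
    have h1 : 1 ≤ LocCoh.depth R R := by rw [hd]; exact_mod_cast hq
    have h2 := (Ga_mU (jp R) s).symm.trans hs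
    have h3 : (jp R).appTop s.down = 0 := congrArg ULift.down h2
    exact ULift.ext _ _ (injective_appTop R h1 (h3.trans (map_zero _).symm))
  | 1, hq =>
    refine subsingleton_one (Groth.Agent.S0073.result R _ 1 (by omega)) (fun t => ?_)
    have h1 : 2 ≤ LocCoh.depth R R := by rw [hd]; exact_mod_cast hq
    obtain ⟨s, hs⟩ := (bijective_appTop R h1).2 t.down
    refine ⟨ULift.up s, (Ga_mU (jp R) _).trans ?_⟩
    exact ULift.ext _ _ hs
  | n + 2, hq =>
    refine subsingleton_succ (Groth.Agent.S0073.result R _ (n + 2) (by omega)) ?_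
    exact subsingleton_H_of_iso (EtaleRes2.GaRestr (jp R)) (n + 1) (GaTors.subsingleton_H_Ga R d hd n hq)

theorem tors_Ga (q : ℕ) (y : Ext (K (jp R)) (EtCoh.Ga (Spec (CommRingCat.of R))) (q + 1)) (x : R)
    (hx : x ∈ maximalIdeal R) : ∃ N : ℕ, act (AsFin.gaMul _ (gl R x ^ N)) y = 0 := by
  match q, y with
  | 0, y =>
    obtain ⟨t, ht⟩ := exists_of_one (Groth.Agent.S0073.result R _ 1 (by omega)) y
    obtain ⟨N, s, hs⟩ := exists_extend R x hx t.down
    refine ⟨N, ht (AsFin.gaMul _ (gl R x ^ N)) (ULift.up s) ?_⟩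
    refine (Ga_mU (jp R) _).trans ?_
    refine Eq.trans ?_ (AsFin.gaMul_app _ (gl R x ^ N) (obj (jp R)) t).symm
    apply ULift.ext
    let t' : Γ((FEt.puncturedSpec R : Scheme.{u}), ⊤) := t.down
    change (jp R).appTop s = (𝟙 _ ≫ jp R).appTop (gl R x ^ N) * t'
    rw [hs, map_pow, Category.id_comp]
  | m + 1, y =>
    obtain ⟨z, hz⟩ := act_eq_zero_succ (Groth.Agent.S0073.result R _ (m + 1 + 1) (by omega)) y
    have : TopologicalSpace.NoetherianSpace (Spec (CommRingCat.of R)) :=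
      inferInstanceAs (TopologicalSpace.NoetherianSpace (PrimeSpectrum R))
    have : TopologicalSpace.NoetherianSpace (FEt.puncturedSpec R : Scheme.{u}) :=
      (FEt.puncturedSpec R).ι.isOpenEmbedding.isInducing.noetherianSpace
    obtain ⟨N, hN⟩ := GaTors.tors_H_Ga (FEt.puncturedSpec R : Scheme.{u}) ((jp R).appTop (gl R x))
      (isAffine_basicOpen R x hx) m (Sheaf.H.map (EtaleRes2.GaRestr (jp R)).hom (m + 1) z)
    refine ⟨N, hz _ ?_⟩
    rw [← map_pow, ← Sheaf.H.map_comp_apply, ← gaMul_restr, Sheaf.H.map_comp_apply] at hN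
    rw [← H_map_hom_inv (EtaleRes2.GaRestr (jp R)) (m + 1)
      (Sheaf.H.map ((EtShriek.restrAlong (jp R)).map (AsFin.gaMul _ (gl R x ^ N))) (m + 1) z), hN, map_zero]

end K152.GaPunct
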