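import Groth.Agent.PicLoc.K728.HensRing
import Groth.Agent.S2051
import Groth.Agent.Hensel.K141.FEtCong
import Groth.Agent.EtDual.K617.PerfUD

/-!
# Henselizations and isomorphisms modulo all powers of `w` (seat 152)

* `ce_of_isHens`: a henselization of `(C, w)` is an isomorphism modulo all `wⁿ`;
* `exists_square`: a map which is an isomorphism modulo all `wⁿ` extends to such a map of the henselizations of the
  pairs `(C, w)`, `(C₁, w)`;
* `qMap_of_ce`: invariance of a presheaf complex under `CE` maps follows from invariance under `CE` maps of henselian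
  pairs and under henselizations.
-/

set_option autoImplicit false

universe u w

open CategoryTheory Opposite Ideal

namespace K152.HensSq

open K617.TauDesc K617.UDQuasi K728.HensRing K933.PerfCat

section ring

variable {C C₁ : Type u} [CommRing C] [CommRing C₁]

theorem ce_of_isHens {a : C} {η : C →+* C₁} (h : IsHens (span {a}) η) : CE a η := by
  refine ⟨fun n y => ?_, fun n x hx => ?_⟩
  · obtain ⟨x, hx⟩ := (h.quot_bijective n).2 (Ideal.Quotient.mk _ y)
    obtain ⟨x, rfl⟩ := Ideal.Quotient.mk_surjective x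
    refine ⟨x, ?_⟩
    rw [Ideal.quotientMap_mk, eq_comm, Ideal.Quotient.eq, Ideal.span_singleton_pow, Ideal.map_span, Set.image_singleton,
      map_pow, Ideal.mem_span_singleton] at hx
    exact hx
  · have h1 : x ∈ span {a} ^ n := h.mem_pow_of_apply_mem (by
      rw [Ideal.span_singleton_pow, Ideal.map_span, Set.image_singleton, map_pow, Ideal.mem_span_singleton]
      exact hx)
    rwa [Ideal.span_singleton_pow, Ideal.mem_span_singleton] at h1

theorem ce_of_comp {C₂ : Type u} [CommRing C₂] {a : C} {η : C →+* C₁} {ψ : C₁ →+* C₂} (h : CE a (ψ.comp η))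
    (hη : CE a η) : CE (η a) ψ := by
  refine ⟨fun n y => ?_, fun n z hz => ?_⟩
  · obtain ⟨x, hx⟩ := h.1 n y
    exact ⟨η x, hx⟩
  · obtain ⟨x, hx⟩ := hη.1 n z
    have h1 : ψ (η a) ^ n ∣ ψ (η x) := by
      have h2 := map_dvd ψ hx
      rw [map_pow, map_sub] at h2
      exact (dvd_sub_right hz).1 h2
    have h3 : a ^ n ∣ x := h.2 n x h1
    have h4 : η a ^ n ∣ η x := by
      have := map_dvd η h3
      rwa [map_pow] at this
    have h5 : z = (z - η x) + η x := by ring
    rw [h5]
    exact dvd_add hx h4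

theorem cong_of_ce {a : C} {φ : C →+* C₁} (h : CE a φ) : K141.Cong φ a where
  surj n b := by
    obtain ⟨x, c, hc⟩ := h.1 n b
    exact ⟨x, c, by rw [← hc]; ring⟩
  inj n x b e := by
    obtain ⟨c, hc⟩ := h.2 n x ⟨b, e⟩
    exact ⟨c, hc⟩

/-- A map `φ : C → C₁` which is an isomorphism modulo all `aⁿ` extends to a map of the henselizations of `(C, a)` and
`(C₁, a)`, again an isomorphism modulo all `aⁿ`. -/
theorem exists_square (a : C) (φ : C →+* C₁) (h : CE a φ) :
    ∃ (H H₁ : Type u) (_ : CommRing H) (_ : CommRing H₁) (η : C →+* H) (η₁ : C₁ →+* H₁) (ψ : H →+* H₁),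
      IsHens (span {a}) η ∧ IsHens (span {φ a}) η₁ ∧ ψ.comp η = η₁.comp φ ∧ CE (η a) ψ ∧
      HenselianRing H (span {η a}) ∧ HenselianRing H₁ (span {ψ (η a)}) := by
  obtain ⟨H, _, _, hH⟩ := Groth.Agent.S2051.result C (span {a})
  obtain ⟨H₁, _, _, hH₁⟩ := Groth.Agent.S2051.result C₁ (span {φ a})
  have h1 : IsHens (span {a}) (algebraMap C H) := by
    unfold IsHens
    convert hH
    exact Algebra.algebra_ext _ _ fun _ => rfl
  have h2 : IsHens (span {φ a}) (algebraMap C₁ H₁) := by
    unfold IsHens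
    convert hH₁
    exact Algebra.algebra_ext _ _ fun _ => rfl
  have h3 := h2.henselian
  obtain ⟨ψ, hψ, -⟩ := h1.existsUnique_lift h3 ((algebraMap C₁ H₁).comp φ) (by
    rw [← Ideal.map_map, Ideal.map_span, Set.image_singleton])
  have e : ψ (algebraMap C H a) = algebraMap C₁ H₁ (φ a) := congrArg (fun f => f a) hψ
  refine ⟨H, H₁, inferInstance, inferInstance, algebraMap C H, algebraMap C₁ H₁, ψ, h1, h2, hψ, ?_, ?_, ?_⟩
  · refine ce_of_comp ?_ (ce_of_isHens h1)
    rw [hψ]
    exact h.comp (ce_of_isHens h2)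
  · have := h1.henselian
    rwa [Ideal.map_span, Set.image_singleton] at this
  · rw [Ideal.map_span, Set.image_singleton] at h3
    rwa [e]

end ring

section under

variable {R₀ : CommRingCat.{u}} {a : R₀}

/-- Invariance under maps which are isomorphisms modulo all `aⁿ` follows from the case of henselian pairs and the case of
henselizations. -/
theorem qMap_of_ce {A : CochainComplex (((Under R₀)ᵒᵖ)ᵒᵖ ⥤ AddCommGrpCat.{w}) ℤ}
    (hA : ∀ ⦃X Y : (Under R₀)ᵒᵖ⦄ (f : X ⟶ Y), CE (el a Y) f.unop.right.hom →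
      HenselianRing Y.unop.right (span {el a Y}) → HenselianRing X.unop.right (span {el a X}) → QMap A f)
    (hC : ∀ ⦃X Y : (Under R₀)ᵒᵖ⦄ (f : X ⟶ Y), IsHens (span {el a Y}) f.unop.right.hom → QMap A f)
    ⦃X Y : (Under R₀)ᵒᵖ⦄ (f : X ⟶ Y) (h : CE (el a Y) f.unop.right.hom) : QMap A f := by
  obtain ⟨H, H₁, _, _, η, η₁, ψ, hη, hη₁, e, h1, h2, h3⟩ := exists_square (el a Y) f.unop.right.hom h
  let Z : (Under R₀)ᵒᵖ := op (Under.mk (Y.unop.hom ≫ CommRingCat.ofHom η))
  let Z₁ : (Under R₀)ᵒᵖ := op (Under.mk (X.unop.hom ≫ CommRingCat.ofHom η₁))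
  let s : Z ⟶ Y := (Under.homMk (CommRingCat.ofHom η) rfl : Y.unop ⟶ Z.unop).op
  let s₁ : Z₁ ⟶ X := (Under.homMk (CommRingCat.ofHom η₁) rfl : X.unop ⟶ Z₁.unop).op
  have e' : CommRingCat.ofHom η ≫ CommRingCat.ofHom ψ = f.unop.right ≫ CommRingCat.ofHom η₁ :=
    CommRingCat.hom_ext e
  let g : Z₁ ⟶ Z := (Under.homMk (CommRingCat.ofHom ψ) (by
    change (Y.unop.hom ≫ CommRingCat.ofHom η) ≫ CommRingCat.ofHom ψ = X.unop.hom ≫ CommRingCat.ofHom η₁
    rw [Category.assoc, e', Under.w_assoc]) : Z.unop ⟶ Z₁.unop).op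
  have hsq : s₁ ≫ f = g ≫ s := by
    apply Quiver.Hom.unop_inj
    apply Under.UnderMorphism.ext
    exact e'.symm
  have he : el a Z₁ = ψ (η (el a Y)) := (el_map a g).symm
  have q1 : QMap A g := hA g h1 h2 (by rw [he]; exact h3)
  have q2 : QMap A s := hC s hη
  have q3 : QMap A s₁ := hC s₁ (by
    have : el a X = f.unop.right.hom (el a Y) := (el_map a f).symm
    rw [this]
    exact hη₁)
  exact QMap.of_comp_right (g := s₁) (by rw [hsq]; exact q1.comp q2) q3

end under

end K152.HensSq
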