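import Groth.Agent.ExtSupp.K787.RDExt
import Groth.Agent.Sga4h.HYRestr
import Groth.Agent.CurvesA.AcycEtale

/-!
# Local cohomology groups as `Ext` groups

`j : U ⟶ X` an open immersion, `Y = X ∖ U`, `K = coker (ℤ_U ⟶ ℤ_X)`: `HYIso : H^q_Y(X, F) ≅ Ext^q(K, F)` as
functors of `F` (`nonempty_HYIso`), and the consequences of the long exact sequence attached to
`0 ⟶ ℤ_U ⟶ ℤ_X ⟶ K ⟶ 0`.
-/

set_option autoImplicit false
universe u
open CategoryTheory CategoryTheory.Limits CategoryTheory.Abelian AlgebraicGeometry Opposite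

namespace K152.LocExt

open Groth.Agent.Sga4h Groth.Agent.Sga4h.HYRestr Groth.Agent.Sga4h.KerSect
  Groth.Agent.CurvesA.SiteZU Groth.Agent.CurvesA.PushAcyclic

variable {X U : Scheme.{u}}

instance mono_Zmap {V W : X.Etale} (m : V ⟶ W) [Mono m] : Mono ((Z X).map m) := by
  have : Mono (PZ.{u + 1}.map m) := by
    have h1 : ∀ T, Mono ((PZ.{u + 1}.map m).app T) := by
      intro T
      change Mono (AddCommGrpCat.free.map ((uliftYoneda.{u + 1}.map m).app T))
      infer_instance
    exact NatTrans.mono_of_mono_app _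
  have : PreservesFiniteLimits (presheafToSheaf X.smallEtaleTopology AddCommGrpCat.{u + 1}) :=
    inferInstance
  exact (presheafToSheaf X.smallEtaleTopology AddCommGrpCat.{u + 1}).map_mono _

/-- The cokernel of `ℤ_V ⟶ ℤ_W`. -/
noncomputable abbrev KZ {V W : X.Etale} (m : V ⟶ W) : EtCoh.Ab X := cokernel ((Z X).map m)

/-- `ker (F(W) → F(V)) = Hom(coker (ℤ_V ⟶ ℤ_W), F)`. -/
noncomputable def kerSectEquiv {V W : X.Etale} (m : V ⟶ W) (F : EtCoh.Ab X) :
    (kerSect m).obj F ≃+ (KZ m ⟶ F) where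
  toFun s := cokernel.desc _ (lift.{u + 1} (F := F) s.1) (by
    rw [map_comp_lift]
    have h : F.obj.map m.op s.1 = 0 := s.2
    rw [h]
    exact ev_injective.{u + 1} ((ev_lift _).trans rfl))
  invFun φ := ⟨ev.{u + 1} (cokernel.π ((Z X).map m) ≫ φ), by
    refine (ev_map_comp.{u + 1} m _).symm.trans ?_
    rw [cokernel.condition_assoc, zero_comp, map_zero]⟩
  left_inv s := by
    apply Subtype.ext
    change ev.{u + 1} (cokernel.π ((Z X).map m) ≫ cokernel.desc _ _ _) = _
    rw [cokernel.π_desc, ev_lift]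
  right_inv φ := by
    apply coequalizer.hom_ext
    change cokernel.π ((Z X).map m) ≫ cokernel.desc _ _ _ = cokernel.π ((Z X).map m) ≫ φ
    rw [cokernel.π_desc]
    exact lift_ev _
  map_add' s t := by
    apply coequalizer.hom_ext
    change cokernel.π ((Z X).map m) ≫ cokernel.desc _ _ _ =
      cokernel.π ((Z X).map m) ≫ (cokernel.desc _ _ _ + cokernel.desc _ _ _)
    rw [Preadditive.comp_add, cokernel.π_desc, cokernel.π_desc, cokernel.π_desc]
    apply ev_injective.{u + 1}
    rw [map_add, ev_lift, ev_lift, ev_lift]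
    rfl

/-- `kerSect m ≅ Hom(KZ m, -)` as functors. -/
noncomputable def kerSectIsoCoyo {V W : X.Etale} (m : V ⟶ W) :
    kerSect m ≅ preadditiveCoyoneda.obj (op (KZ m)) :=
  NatIso.ofComponents (fun F => AddEquiv.toAddCommGrpIso (kerSectEquiv m F)) (fun {F G} f => by
    ext s
    apply coequalizer.hom_ext
    change cokernel.π ((Z X).map m) ≫ cokernel.desc _ (lift.{u + 1} (F := G) (f.hom.app (op W) s.1)) _ =
      cokernel.π ((Z X).map m) ≫ cokernel.desc _ (lift.{u + 1} (F := F) s.1) _ ≫ f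
    rw [cokernel.π_desc, cokernel.π_desc_assoc]
    apply ev_injective.{u + 1}
    rw [ev_lift, ev_comp, ev_lift])

section

variable (j : U ⟶ X) [IsOpenImmersion j]

/-- The structure morphism of `U` in the small etale site of `X`. -/
noncomputable abbrev mU : obj j ⟶ EtCoh.top X := (isTerminalTop X).from (obj j)

instance mono_mU : Mono (mU j) := mono_of_terminal j _

/-- `K = coker (ℤ_U ⟶ ℤ_X)`. -/
noncomputable abbrev K : EtCoh.Ab X := KZ (mU j)

/-- `0 ⟶ ℤ_U ⟶ ℤ_X ⟶ K ⟶ 0`. -/
noncomputable abbrev seqK : ShortComplex (EtCoh.Ab X) :=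
  ShortComplex.mk ((Z X).map (mU j)) (cokernel.π _) (cokernel.condition _)

theorem seqK_shortExact : (seqK j).ShortExact where
  exact := ShortComplex.exact_cokernel _
  mono_f := mono_Zmap (mU j)
  epi_g := inferInstance

/-- `H^q_Y(X, -) ≅ Ext^q(K, -)`. -/
theorem nonempty_HYIso [EtCoh.BCCont j] (q : ℕ) :
    Nonempty (EtDual.HY j q ≅ extFunctorObj.{u + 1} (K j) q) := by
  have : PreservesFiniteLimits (EtDual.gammaSupp j) :=
    have : PreservesFiniteLimits (kerSect (mU j)) :=
      preservesFiniteLimits_of_natIso (kerSectIsoCoyo (mU j)).symm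
    preservesFiniteLimits_of_natIso (gammaSuppIso' j).symm
  exact K787.RDExt.nonempty_rightDerived_iso (K j) (EtDual.gammaSupp j)
    (gammaSuppIso' j ≪≫ kerSectIsoCoyo (mU j)) q

end

end K152.LocExt
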