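import Groth.Agent.Sga2lef.H101.SmoothParam
import Groth.Agent.Sga2lef.H101.IndSmoothPoly
import Groth.Agent.Etdl.H428.RegPar2
import Groth.Agent.Etdl.H428.SmLim

/-!
# Regular local rings over a perfect field are ind-smooth over a polynomial ring

`isRegularHom_of_perfect` : a regular ring over a perfect field `k` is a regular `k`-algebra.

`indSmooth_params` : a regular local ring over a perfect field is ind-smooth over the polynomial ring in a
regular system of parameters (Popescu).
-/

set_option autoImplicit false
universe u
open IsLocalRing MvPolynomial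

namespace K152.PerfInd

open Groth.Agent Groth.Agent.Sga2lef.H101 Groth.Agent.Sga2lef.H101.IndSmoothPoly

/-- A regular ring over a perfect field is a regular algebra. -/
theorem isRegularHom_of_perfect (k R : Type u) [Field k] [PerfectField k] [CommRing R] [Algebra k R]
    [IsRegularRing R] : CAlg.IsRegularHom k R := by
  rw [Groth.Agent.CalgB.RegHom6.isRegularHom_iff]
  exact ⟨inferInstance, fun K' _ _ _ => Groth.Agent.CalgB.RegHom3.isRegularRing_tensor_of_perfectField⟩

/-- Popescu over a perfect field. -/
theorem indSmooth_of_isRegularLocalRing (k R : Type u) [Field k] [PerfectField k] [CommRing R]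
    [IsRegularLocalRing R] [Algebra k R] : Smoothing.IndSmooth k R := by
  have : IsRegularRing R := Groth.Agent.CalgB.GeomRegIff.isRegularRing_of_isRegularLocalRing R
  exact Groth.Agent.Etdl.H428.SmLim.indSmooth_of_isRegularHom (isRegularHom_of_perfect k R)

variable {k R : Type u} [Field k] [PerfectField k] [CommRing R] [IsRegularLocalRing R] [Algebra k R]
  {d : ℕ} [Algebra (MvPolynomial (Fin d) k) R] [IsScalarTower k (MvPolynomial (Fin d) k) R]

/-- A regular local ring over `k` is ind-smooth over the polynomial ring in a regular system of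
parameters. -/
theorem indSmooth_params (hd : ringKrullDim R = d)
    (ht : Ideal.span (Set.range fun i : Fin d => algebraMap (MvPolynomial (Fin d) k) R (X i)) = maximalIdeal R) :
    Smoothing.IndSmooth (MvPolynomial (Fin d) k) R := by
  intro A _ _ hA f
  let _ : Algebra k A := Algebra.compHom A (algebraMap k (MvPolynomial (Fin d) k))
  have : IsScalarTower k (MvPolynomial (Fin d) k) A := IsScalarTower.of_algebraMap_eq' rfl
  have hA' : Algebra.FinitePresentation k A := Algebra.FinitePresentation.trans k (MvPolynomial (Fin d) k) A
  obtain ⟨B, _, _, hB, g, h, hgh⟩ := indSmooth_of_isRegularLocalRing k R A hA' (f.restrictScalars k)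
  let _ : Algebra (MvPolynomial (Fin d) k) B :=
    ((g : A →+* B).comp (algebraMap (MvPolynomial (Fin d) k) A)).toAlgebra
  have tB : IsScalarTower k (MvPolynomial (Fin d) k) B := by
    apply IsScalarTower.of_algebraMap_eq
    intro x
    change algebraMap k B x = g (algebraMap (MvPolynomial (Fin d) k) A (algebraMap k _ x))
    rw [← IsScalarTower.algebraMap_apply k (MvPolynomial (Fin d) k) A, AlgHom.commutes]
  have hcomm : ∀ x : MvPolynomial (Fin d) k, h (algebraMap (MvPolynomial (Fin d) k) B x) =
      algebraMap (MvPolynomial (Fin d) k) R x := by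
    intro x
    have := DFunLike.congr_fun hgh (algebraMap (MvPolynomial (Fin d) k) A x)
    rw [AlgHom.restrictScalars_apply, AlgHom.commutes] at this
    exact this
  have hBP : Algebra.FinitePresentation (MvPolynomial (Fin d) k) B :=
    Algebra.FinitePresentation.of_restrict_scalars_finitePresentation k (MvPolynomial (Fin d) k) B
  let p : Ideal B := (maximalIdeal R).comap (h : B →+* R)
  have hp : p.IsPrime := Ideal.IsPrime.comap _
  let L := Localization.AtPrime p
  let hL : L →+* R := IsLocalization.lift (M := p.primeCompl) (g := (h : B →+* R)) (fun y => by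
    by_contra hcon
    exact y.2 ((mem_maximalIdeal _).2 hcon))
  have hLB : ∀ b, hL (algebraMap B L b) = h b := fun b => IsLocalization.lift_eq _ b
  have hloc : ∀ y : L, hL y ∈ maximalIdeal R → y ∈ maximalIdeal L := by
    intro y hy hu
    exact hy (hu.map hL)
  have hess : Algebra.EssFiniteType k L := by
    have : Algebra.EssFiniteType B L := Algebra.EssFiniteType.of_isLocalization _ p.primeCompl
    exact Algebra.EssFiniteType.comp k B L
  have hsmL : Algebra.FormallySmooth k L := by
    have : Algebra.FormallySmooth B L := Algebra.FormallySmooth.of_isLocalization p.primeCompl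
    exact Algebra.FormallySmooth.comp k B L
  have hXL : ∀ x : MvPolynomial (Fin d) k, hL (algebraMap (MvPolynomial (Fin d) k) L x) =
      algebraMap (MvPolynomial (Fin d) k) R x := by
    intro x
    rw [IsScalarTower.algebraMap_apply (MvPolynomial (Fin d) k) B L, hLB, hcomm]
  have hmemR : ∀ i : Fin d, algebraMap (MvPolynomial (Fin d) k) R (X i) ∈ maximalIdeal R :=
    fun i => ht ▸ Ideal.subset_span ⟨i, rfl⟩
  have hmL : (maximalIdeal L).map hL ≤ maximalIdeal R := by
    rw [Ideal.map_le_iff_le_comap]
    intro y hy
    by_contra hcon
    have hu : IsUnit (hL y) := by simpa using hcon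
    -- `y` is a unit since it is the image of an element outside `p` up to a unit
    obtain ⟨b, s, rfl⟩ := IsLocalization.exists_mk'_eq p.primeCompl y
    have h1 : hL (IsLocalization.mk' L b s) * h s = h b := by
      rw [← hLB, ← map_mul, IsLocalization.mk'_spec, hLB]
    have h2 : b ∉ p := by
      intro hb
      have hb' : h b ∈ maximalIdeal R := hb
      rw [← h1] at hb'
      rcases (maximalIdeal.isMaximal R).isPrime.mem_or_mem hb' with h3 | h3
      · exact h3 hu
      · exact s.2 h3
    have h3 : IsUnit (IsLocalization.mk' L b s) := by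
      rw [IsLocalization.AtPrime.isUnit_mk'_iff L p]
      exact h2
    exact hy h3
  have hsm : Algebra.IsSmoothAt (MvPolynomial (Fin d) k) p := by
    refine SmoothParam.formallySmooth_mvPolynomial (k := k) (L := L) ?_ ?_
    · intro i
      apply hloc
      rw [hXL]
      exact hmemR i
    · intro a ha i
      apply hloc
      refine mem_maximalIdeal_of_sum_mem hd _ ht (fun i => hL (a i)) ?_ i
      have h1 : hL (∑ i, a i * algebraMap (MvPolynomial (Fin d) k) L (X i)) ∈ maximalIdeal R ^ 2 := by
        have h2 := Ideal.mem_map_of_mem hL ha
        rw [Ideal.map_pow] at h2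
        exact Ideal.pow_right_mono hmL 2 h2
      rw [map_sum] at h1
      simpa only [map_mul, hXL] using h1
  obtain ⟨e, he, hsme⟩ := Algebra.IsSmoothAt.exists_notMem_smooth (MvPolynomial (Fin d) k) p
  have hunit : IsUnit (h e) := by
    by_contra hcon
    exact he ((mem_maximalIdeal _).2 hcon)
  let h' : B →ₐ[MvPolynomial (Fin d) k] R := { (h : B →+* R) with commutes' := hcomm }
  let g' : A →ₐ[MvPolynomial (Fin d) k] B := { (g : A →+* B) with commutes' := fun _ => rfl }
  have hunit' : IsUnit (h' e) := hunit
  refine ⟨Localization.Away e, inferInstance, inferInstance, hsme,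
    (IsScalarTower.toAlgHom _ B (Localization.Away e)).comp g',
    IsLocalization.Away.liftAlgHom e (f := h') hunit', ?_⟩
  ext x
  simp only [AlgHom.comp_apply, IsScalarTower.coe_toAlgHom']
  rw [IsLocalization.Away.liftAlgHom_apply, IsLocalization.Away.lift_eq]
  exact DFunLike.congr_fun hgh x

end K152.PerfInd
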