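import Groth.Agent.EtDual.K152.PerfInd
import Groth.Agent.Sga2lef.H101.LocalPurity
import Groth.Agent.EtDl.K555.SmoothGysin
import Groth.Agent.EtDl.K555.OpenSq
import Groth.Agent.Sga4h.UlaGen16b
import Groth.Agent.Sga4h.FinBC
import Groth.Agent.Sga5.H848.TateTwist
import Groth.Agent.EtpbcA.CdExact
import Groth.Agent.S14625

/-!
# Punctual purity for regular local rings of equal characteristic

`isPullback_of_surjective` : the fibre of a closed subscheme of an affine scheme.

`pure_of_perfect` : punctual purity for a regular local ring containing a perfect field.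

`pure_of_equalChar` : punctual purity for a regular local ring of equal characteristic.
-/

set_option autoImplicit false
universe u
open CategoryTheory CategoryTheory.Limits AlgebraicGeometry Opposite MvPolynomial IsLocalRing

namespace K152.PuncPure

open Groth.Agent Groth.Agent.Sga2lef.H101 Groth.Agent.Sga5

/-! ### Closed fibres -/

theorem isPushout_of_surjective {P K R S : Type u} [CommRing P] [CommRing K] [CommRing R] [CommRing S]
    (ε : P →+* K) (φ : P →+* R) (ρ : R →+* S) (ψ : K →+* S) (hε : Function.Surjective ε)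
    (hρ : Function.Surjective ρ) (w : ψ.comp ε = ρ.comp φ)
    (hker : RingHom.ker ρ ≤ (RingHom.ker ε).map φ) :
    IsPushout (CommRingCat.ofHom ε) (CommRingCat.ofHom φ) (CommRingCat.ofHom ψ) (CommRingCat.ofHom ρ) := by
  refine ⟨⟨?_⟩, ⟨PushoutCocone.IsColimit.mk _ (fun s => CommRingCat.ofHom
    (ρ.liftOfSurjective hρ ⟨s.inr.hom, ?_⟩)) ?_ ?_ ?_⟩⟩
  · rw [← CommRingCat.ofHom_comp, ← CommRingCat.ofHom_comp, w]
  · have h1 : (RingHom.ker ε).map φ ≤ RingHom.ker s.inr.hom := by
      rw [Ideal.map_le_iff_le_comap]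
      intro x hx
      have h2 := congrArg (fun t => t.hom x) s.condition
      have h3 : s.inl.hom (ε x) = s.inr.hom (φ x) := h2
      change s.inr.hom (φ x) = 0
      rw [← h3, (RingHom.mem_ker.1 hx : ε x = 0), map_zero]
    exact fun x hx => h1 (hker hx)
  · intro s
    ext x
    obtain ⟨y, rfl⟩ := hε x
    have h2 := congrArg (fun t => t.hom y) s.condition
    have h3 : s.inl.hom (ε y) = s.inr.hom (φ y) := h2
    have h4 : ψ (ε y) = ρ (φ y) := RingHom.congr_fun w y
    change ρ.liftOfSurjective hρ _ (ψ (ε y)) = s.inl.hom (ε y)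
    rw [h3, h4]
    exact RingHom.liftOfRightInverse_comp_apply _ _ _ _ _
  · intro s
    ext x
    exact RingHom.liftOfRightInverse_comp_apply ρ _ (Function.rightInverse_surjInv hρ) _ x
  · intro s m h1 h2
    ext x
    obtain ⟨y, rfl⟩ := hρ x
    have h3 : m.hom (ρ y) = s.inr.hom y := congrArg (fun t => t.hom y) h2
    change m.hom (ρ y) = ρ.liftOfSurjective hρ _ (ρ y)
    rw [h3]
    exact (RingHom.liftOfRightInverse_comp_apply ρ _ (Function.rightInverse_surjInv hρ)
      ⟨s.inr.hom, _⟩ y).symm

theorem isPullback_of_surjective {P K R S : Type u} [CommRing P] [CommRing K] [CommRing R] [CommRing S]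
    (ε : P →+* K) (φ : P →+* R) (ρ : R →+* S) (ψ : K →+* S) (hε : Function.Surjective ε)
    (hρ : Function.Surjective ρ) (w : ψ.comp ε = ρ.comp φ)
    (hker : RingHom.ker ρ ≤ (RingHom.ker ε).map φ) :
    IsPullback (Spec.map (CommRingCat.ofHom ψ)) (Spec.map (CommRingCat.ofHom ρ))
      (Spec.map (CommRingCat.ofHom ε)) (Spec.map (CommRingCat.ofHom φ)) :=
  isPullback_SpecMap_of_isPushout _ _ _ _ (isPushout_of_surjective ε φ ρ ψ hε hρ w hker)

/-- Inverse image of a constant sheaf on a closed subscheme. -/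
theorem nonempty_pull_push_const {X Z X' Z' : Scheme.{u}} {i : Z ⟶ X} {g : X' ⟶ X} {i' : Z' ⟶ X'}
    {g' : Z' ⟶ Z} [IsClosedImmersion i] (sq : IsPullback g' i' i g) (M : Type) [AddCommGroup M] :
    Nonempty ((EtCoh.pull g).obj ((EtCoh.push i).obj (EtCoh.const Z M)) ≅
      (EtCoh.push i').obj (EtCoh.const Z' M)) :=
  ⟨Sga4h.UlaGen16b.bcIso i g i' g' sq _ ≪≫ (EtCoh.push i').mapIso (EtCore.pullConst g' M)⟩

theorem nonempty_push_const_iso {X Y : Scheme.{u}} (f : X ⟶ Y) [IsIso f] (M : Type) [AddCommGroup M] :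
    Nonempty (EtCoh.const Y M ≅ (EtCoh.push f).obj (EtCoh.const X M)) := by
  have := EtpbcA.CdExact.push_isEquivalence_of_isIso f
  have h : IsIso ((EtCoh.pullPushAdj f).unit.app (EtCoh.const Y M)) := inferInstance
  exact ⟨asIso ((EtCoh.pullPushAdj f).unit.app (EtCoh.const Y M)) ≪≫
    (EtCoh.push f).mapIso (EtCore.pullConst f M)⟩

/-! ### Purity over a perfect field -/

section

variable (k : Type u) [Field k] [PerfectField k] (R : Type u) [CommRing R] [IsRegularLocalRing R]
  [Algebra k R]

theorem isUnit_natCast_spec {n : ℕ} (hnk : (n : k) ≠ 0) : IsUnit (n : Γ(Spec (CommRingCat.of k), ⊤)) := by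
  have h0 : IsUnit (n : k) := Ne.isUnit hnk
  have h3 := h0.map (Scheme.ΓSpecIso (CommRingCat.of k)).inv.hom
  rwa [map_natCast] at h3

include k in
/-- Punctual purity for a regular local ring containing a perfect field. -/
theorem pure_of_perfect {d : ℕ} (hd : ringKrullDim R = d) {n : ℕ} (hnk : (n : k) ≠ 0)
    {U : Scheme.{u}} (j : U ⟶ Spec (CommRingCat.of R)) [IsOpenImmersion j]
    (hU : ∀ x : PrimeSpectrum R, x ∈ Set.range j.base ↔ x ≠ closedPoint R) :
    (∀ q : ℕ, q ≠ 2 * d → IsZero ((EtDual.locCoh j q).obj (EtCoh.const (Spec (CommRingCat.of R)) (ZMod n)))) ∧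
      Nonempty ((EtDual.locCoh j (2 * d)).obj (EtDual.tate (Spec (CommRingCat.of R)) n d) ≅
        (EtCoh.push (Spec.map (CommRingCat.ofHom (residue R)))).obj
          (EtCoh.const (Spec (CommRingCat.of (ResidueField R))) (ZMod n))) := by
  have hn0 : n ≠ 0 := by rintro rfl; exact hnk (by simp)
  have hne : NeZero n := ⟨hn0⟩
  rcases Nat.eq_zero_or_pos d with rfl | hd0
  · -- `R` is a field
    have hE : IsEmpty U := by
      refine ⟨fun x => ?_⟩
      have h0 : ringKrullDim R = 0 := by exact_mod_cast hd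
      have : Ring.KrullDimLE 0 R := by
        rw [Ring.krullDimLE_iff, h0]
        rfl
      refine (hU (j x)).1 ⟨x, rfl⟩ (PrimeSpectrum.ext (eq_maximalIdeal ?_))
      exact Ideal.isMaximal_of_isPrime _
    refine ⟨fun q hq => ?_, ?_⟩
    · obtain ⟨q, rfl⟩ := Nat.exists_eq_succ_of_ne_zero (by omega : q ≠ 0)
      exact Sga4B.LocCohTriv.isZero_locCoh_succ_of_isEmpty _ _ q
    · have hdom : IsDomain R := CalgA.RegBasic.isDomain R
      have h0 : ringKrullDim R = 0 := by exact_mod_cast hd
      have : Ring.KrullDimLE 0 R := by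
        rw [Ring.krullDimLE_iff, h0]
        rfl
      have hF : IsField R := Ring.KrullDimLE.isField_of_isDomain
      have hb : Function.Bijective (residue R) := by
        refine ⟨?_, residue_surjective⟩
        rw [injective_iff_map_eq_zero]
        intro a ha
        have h1 : a ∈ maximalIdeal R := (residue_eq_zero_iff a).1 ha
        rwa [isField_iff_maximalIdeal_eq.1 hF] at h1
      have hi : IsIso (CommRingCat.ofHom (residue R)) :=
        (ConcreteCategory.isIso_iff_bijective _).2 hb
      obtain ⟨e⟩ := nonempty_push_const_iso (Spec.map (CommRingCat.ofHom (residue R))) (ZMod n)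
      exact ⟨Sga4B.LocCohTriv.locCohZeroIsoOfIsEmpty _ _ ≪≫ e⟩
  · obtain ⟨t, ht⟩ := LocalPurity.exists_params R d hd
    let _ : Algebra (MvPolynomial (Fin d) k) R := (aeval (R := k) t).toAlgebra
    have : IsScalarTower k (MvPolynomial (Fin d) k) R :=
      IsScalarTower.of_algebraMap_eq' (aeval (R := k) t).comp_algebraMap.symm
    have ht' : Ideal.span (Set.range fun i : Fin d => algebraMap (MvPolynomial (Fin d) k) R (X i)) =
        maximalIdeal R := by
      rw [← ht]
      congr 2
      funext i
      exact aeval_X t i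
    let g : Spec (CommRingCat.of R) ⟶ AffOrigin.A k d := LocalPurity.g k R (d := d)
    have hbc : EtpbcB.BCU.BCMor (Spec (CommRingCat.of k)) g :=
      SmLimBC.bcMor_of_indSmooth (PerfInd.indSmooth_params hd ht') (AffOrigin.f k d)
    have hr : ∀ z : Spec (CommRingCat.of R), z ∈ Set.range j ↔ g z ∈ Set.range (AffOrigin.U k d).ι := by
      intro z
      have h1 : z ∈ Set.range j ↔ z ≠ closedPoint R := hU z
      have h2 : z ∈ g ⁻¹ᵁ (AffOrigin.U k d) ↔ z ∈ FEt.puncturedSpec R := by
        rw [LocalPurity.preimage_U k R ht']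
      rw [h1, Scheme.Opens.range_ι]
      exact h2.symm
    obtain ⟨g', sq⟩ := K555.OpenSq.exists_isPullback_of_range (AffOrigin.U k d).ι j g hr
    refine ⟨fun q hq => ?_, ?_⟩
    · have h1 := LocCohBC.isZero_locCoh_pull hbc sq
        (EtCoh.const (AffOrigin.A k d) (ZMod n)) (LocalPurity.isTorsionInvertibleOn_const k hnk _) q
        ((AffOrigin.purity k hd0 hnk).1 q hq)
      exact h1.of_iso ((EtDual.locCoh j q).mapIso (EtCore.pullConst g (ZMod n)).symm)
    · obtain ⟨e, rfl⟩ : ∃ e, d = e + 1 := ⟨d - 1, by omega⟩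
      have hνk := isUnit_natCast_spec k hnk
      have hνA : IsUnit (n : Γ(AffOrigin.A k (e + 1), ⊤)) := AffOrigin.isUnit_natCast k (e + 1) hnk
      have hsm : SmoothOfRelativeDimension (0 + (e + 1)) (AffOrigin.f k (e + 1)) := by
        rw [zero_add]
        exact AffOrigin.smooth_mvPolynomial k (e + 1)
      have hsm' : SmoothOfRelativeDimension 0 (𝟙 (Spec (CommRingCat.of k))) := inferInstance
      obtain ⟨e1⟩ := K555.SmoothGysin.nonempty_locCoh_top (AffOrigin.i k (e + 1)) (AffOrigin.U k (e + 1)).ι
        (AffOrigin.range_U k (e + 1)) (AffOrigin.f k (e + 1)) (𝟙 _) 0 e (AffOrigin.i_f k (e + 1)) n hνk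
      have htors : EtPBC.IsTorsionInvertibleOn (Spec (CommRingCat.of k))
          (EtDual.tate (AffOrigin.A k (e + 1)) n (e + 1)) :=
        Sga4h.FinBC.isTorsionInvertibleOn_of_killedBy hνk (H848.TateTwist.killedBy_tate (e + 1))
      obtain ⟨e2⟩ := LocCohBC.nonempty_pull_locCoh_iso hbc sq _ htors (2 * (e + 1))
      obtain ⟨-, ⟨e3⟩⟩ := H848.TateTwist.nonempty_pull_tate g hνA (e + 1)
      let ψ : k →+* ResidueField R := algebraMap k (ResidueField R)
      have sq2 : IsPullback (Spec.map (CommRingCat.ofHom ψ)) (Spec.map (CommRingCat.ofHom (residue R)))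
          (AffOrigin.i k (e + 1)) g := by
        refine isPullback_of_surjective (AffOrigin.ev k (e + 1)).toRingHom
          (algebraMap (MvPolynomial (Fin (e + 1)) k) R) (residue R) ψ (AffOrigin.ev_surjective k (e + 1))
          residue_surjective ?_ ?_
        · apply MvPolynomial.ringHom_ext
          · intro a
            have h1 : AffOrigin.ev k (e + 1) (C a) = a := by simp [AffOrigin.ev]
            change ψ (AffOrigin.ev k (e + 1) (C a)) = residue R (algebraMap _ R (C a))
            rw [h1, ← MvPolynomial.algebraMap_eq, ← IsScalarTower.algebraMap_apply]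
            rfl
          · intro i
            have h1 : AffOrigin.ev k (e + 1) (X i) = 0 := by simp [AffOrigin.ev]
            change ψ (AffOrigin.ev k (e + 1) (X i)) = residue R (algebraMap _ R (X i))
            rw [h1, map_zero]
            exact ((residue_eq_zero_iff _).2 (ht' ▸ Ideal.subset_span ⟨i, rfl⟩)).symm
        · rw [ker_residue, ← ht', AffOrigin.ker_ev, AffOrigin.ideal, Ideal.map_span]
          refine Ideal.span_mono ?_
          rintro _ ⟨i, rfl⟩
          exact ⟨X i, ⟨i, rfl⟩, rfl⟩
      obtain ⟨e4⟩ := nonempty_pull_push_const sq2 (ZMod n)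
      exact ⟨(EtDual.locCoh j (2 * (e + 1))).mapIso e3.symm ≪≫ e2.symm ≪≫ (EtCoh.pull g).mapIso e1 ≪≫ e4⟩

end

/-! ### Equal characteristic -/

/-- A local ring of equal characteristic which is a domain contains a perfect field in which every integer
invertible in the ring is invertible. -/
theorem exists_perfect (A : Type u) [CommRing A] [IsLocalRing A] [IsDomain A]
    (hchar : ringChar A = ringChar (ResidueField A)) (n : ℕ) (hn : IsUnit (n : A)) :
    ∃ (k : Type u) (_ : Field k) (_ : PerfectField k) (_ : Algebra k A), (n : k) ≠ 0 := by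
  rcases CharP.char_is_prime_or_zero A (ringChar A) with hp | h0
  · have : Fact (ringChar A).Prime := ⟨hp⟩
    let k := ULift.{u} (ZMod (ringChar A))
    let f : k →+* A := (ZMod.castHom (dvd_refl _) A).comp ULift.ringEquiv.toRingHom
    have hfin : Finite k := inferInstance
    refine ⟨k, inferInstance, PerfectField.ofFinite, f.toAlgebra, fun h => ?_⟩
    have h1 : (n : A) = 0 := by
      rw [← map_natCast f, h, map_zero]
    rw [h1] at hn
    exact not_isUnit_zero hn
  · have hc : CharP A 0 := h0 ▸ ringChar.charP A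
    have hc' : CharP (ResidueField A) 0 := (hchar.symm.trans h0) ▸ ringChar.charP (ResidueField A)
    have hz : CharZero (ResidueField A) := CharP.charP_to_charZero _
    have hu : ∀ m : nonZeroDivisors ℤ, IsUnit (algebraMap ℤ A m) := by
      intro m
      by_contra hm
      have h1 : algebraMap ℤ A m ∈ maximalIdeal A := hm
      have h2 : residue A (algebraMap ℤ A m) = 0 := (residue_eq_zero_iff _).2 h1
      rw [eq_intCast, map_intCast, Int.cast_eq_zero] at h2
      exact nonZeroDivisors.coe_ne_zero m h2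
    let f : ULift.{u} ℚ →+* A := (IsLocalization.lift (M := nonZeroDivisors ℤ) (S := ℚ)
      (g := algebraMap ℤ A) hu).comp ULift.ringEquiv.toRingHom
    have hcz : CharZero (ULift.{u} ℚ) := ⟨fun a b h => by
      have := congrArg ULift.down h
      simpa using this⟩
    refine ⟨ULift.{u} ℚ, inferInstance, PerfectField.ofCharZero, f.toAlgebra, fun h => ?_⟩
    have h1 : (n : A) = 0 := by
      rw [← map_natCast f, h, map_zero]
    rw [h1] at hn
    exact not_isUnit_zero hn

/-- Punctual purity in equal characteristic. -/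
theorem pure_of_equalChar (A : Type u) [CommRing A] [IsRegularLocalRing A]
    (hchar : ringChar A = ringChar (ResidueField A)) {d : ℕ} (hd : ringKrullDim A = d)
    {U : Scheme.{u}} (j : U ⟶ Spec (CommRingCat.of A)) [IsOpenImmersion j]
    (hU : ∀ x : PrimeSpectrum A, x ∈ Set.range j.base ↔ x ≠ closedPoint A)
    (n : ℕ) (hn : IsUnit (n : A)) :
    (∀ q : ℕ, q ≠ 2 * d → IsZero ((EtDual.locCoh j q).obj (EtCoh.const (Spec (CommRingCat.of A)) (ZMod n)))) ∧
      Nonempty ((EtDual.locCoh j (2 * d)).obj (EtDual.tate (Spec (CommRingCat.of A)) n d) ≅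
        (EtCoh.push (Spec.map (CommRingCat.ofHom (residue A)))).obj
          (EtCoh.const (Spec (CommRingCat.of (ResidueField A))) (ZMod n))) := by
  have hdom : IsDomain A := CalgA.RegBasic.isDomain A
  obtain ⟨k, _, _, _, hnk⟩ := exists_perfect A hchar n hn
  exact pure_of_perfect k A hd hnk j hU

end K152.PuncPure
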