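import Groth.Agent.EtDual.K152.PunctH
import Groth.Agent.EtDual.K726.Iface
import Mathlib.AlgebraicGeometry.Morphisms.UniversallyInjective
import Mathlib.AlgebraicGeometry.Morphisms.Integral
import Mathlib.RingTheory.Spectrum.Prime.Homeomorph

/-!
# Radicial ring maps in characteristic `p` and the cohomology of the punctured spectrum

`φ : A →+* S` with `p = 0` in `A`, nilpotent kernel and every element of `S` having a `p^n`-th power in
the image: `Spec S ⟶ Spec A` is a universal homeomorphism, and the cohomology of corresponding open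
subschemes is the same.  In particular for the perfection of a strictly henselian regular local ring of
characteristic `p`.
-/

set_option autoImplicit false
universe u
open CategoryTheory CategoryTheory.Limits AlgebraicGeometry Opposite IsLocalRing

namespace K152.RadInv

open Groth.Agent Groth.Agent.Etbase Groth.Agent.Sga5

/-- Radicial ring maps in characteristic `p`. -/
structure IsRad (p : ℕ) {A S : Type u} [CommRing A] [CommRing S] (φ : A →+* S) : Prop where
  zero : (p : A) = 0
  pow : ∀ s : S, ∃ (n : ℕ) (a : A), φ a = s ^ p ^ n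
  ker : ∀ a : A, φ a = 0 → IsNilpotent a

section

variable {p : ℕ} [Fact p.Prime] {A S : Type u} [CommRing A] [CommRing S] {φ : A →+* S} (h : IsRad p φ)

include h

theorem isIntegral : φ.IsIntegral := by
  intro s
  obtain ⟨n, a, ha⟩ := h.pow s
  have hpos : 0 < p ^ n := pow_pos (Fact.out : p.Prime).pos n
  refine ⟨Polynomial.X ^ p ^ n - Polynomial.C a, Polynomial.monic_X_pow_sub_C a hpos.ne', ?_⟩
  simp [ha]

theorem isIntegralHom : IsIntegralHom (Spec.map (CommRingCat.ofHom φ)) := by
  rw [IsIntegralHom.SpecMap_iff]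
  exact isIntegral h

theorem surjective : Surjective (Spec.map (CommRingCat.ofHom φ)) := by
  have h1 := PrimeSpectrum.isHomeomorph_comap φ (fun x => by
    obtain ⟨n, a, ha⟩ := h.pow x
    exact ⟨p ^ n, pow_pos (Fact.out : p.Prime).pos n, a, ha⟩)
    (fun a ha => mem_nilradical.2 (h.ker a ha))
  exact ⟨h1.surjective⟩

theorem universallyInjective : UniversallyInjective (Spec.map (CommRingCat.ofHom φ)) := by
  refine (tfae_universallyInjective _).out 1 0 |>.mp ?_
  intro K _ g₁ g₂ hg
  obtain ⟨a, rfl⟩ := Spec.map_surjective g₁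
  obtain ⟨b, rfl⟩ := Spec.map_surjective g₂
  dsimp only at hg
  rw [← Spec.map_comp, ← Spec.map_comp] at hg
  have h' := congrArg CommRingCat.Hom.hom (Spec.map_injective hg)
  congr 1
  apply CommRingCat.hom_ext
  refine RingHom.ext fun s => ?_
  obtain ⟨n, c, hc⟩ := h.pow s
  have h1 : a.hom (φ c) = b.hom (φ c) := RingHom.congr_fun h' c
  rw [hc, map_pow, map_pow] at h1
  have hpK : (p : K) = 0 := by
    have h2 : a.hom (φ (p : A)) = 0 := by rw [h.zero, map_zero, map_zero]
    rwa [map_natCast, map_natCast] at h2
  have hch : CharP K p := (CharP.charP_iff_prime_eq_zero (Fact.out : p.Prime)).2 hpK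
  have hexp : ExpChar K p := ExpChar.prime Fact.out
  have h3 : iterateFrobenius K p n (a.hom s) = iterateFrobenius K p n (b.hom s) := by
    rw [iterateFrobenius_def, iterateFrobenius_def]; exact h1
  exact (iterateFrobenius K p n).injective h3

/-- Cohomology of corresponding open subschemes. -/
theorem nonempty_H_equiv {U U' : Scheme.{u}} (j : U ⟶ Spec (CommRingCat.of A))
    (j' : U' ⟶ Spec (CommRingCat.of S)) [IsOpenImmersion j] [IsOpenImmersion j']
    (hr : Set.range j' = (Spec.map (CommRingCat.ofHom φ)) ⁻¹' Set.range j) (M : Type) [AddCommGroup M]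
    (q : ℕ) : Nonempty (EtCoh.H U (EtCoh.const U M) q ≃+ EtCoh.H U' (EtCoh.const U' M) q) := by
  have hrange : Set.range (j' ≫ Spec.map (CommRingCat.ofHom φ)) ⊆ Set.range j := by
    rintro _ ⟨y, rfl⟩
    have h1 : j' y ∈ Set.range j' := ⟨y, rfl⟩
    rw [hr] at h1
    exact h1
  let g : U' ⟶ U := IsOpenImmersion.lift j (j' ≫ Spec.map (CommRingCat.ofHom φ)) hrange
  have hg : g ≫ j = j' ≫ Spec.map (CommRingCat.ofHom φ) := IsOpenImmersion.lift_fac _ _ _
  have sq : IsPullback g j' j (Spec.map (CommRingCat.ofHom φ)) := by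
    refine (IsOpenImmersion.isPullback g j' j (Spec.map (CommRingCat.ofHom φ)) hg.symm ?_)
    ext x
    have h1 : x ∈ Set.range j' ↔ x ∈ (Spec.map (CommRingCat.ofHom φ)) ⁻¹' Set.range j := by rw [hr]
    exact h1.symm
  have i1 := isIntegralHom h
  have i2 := surjective h
  have i3 := universallyInjective h
  have j1 : IsIntegralHom g := MorphismProperty.of_isPullback sq.flip i1
  have j2 : Surjective g := MorphismProperty.of_isPullback sq.flip i2
  have j3 : UniversallyInjective g := MorphismProperty.of_isPullback sq.flip i3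
  have h1 := Groth.Agent.S0642.result g (EtCoh.const U M) q
  let e : EtCoh.H U (EtCoh.const U M) q ≃+ EtCoh.H U' ((EtCoh.pull g).obj (EtCoh.const U M)) q :=
    AddEquiv.ofBijective _ h1
  exact ⟨e.trans (Etrest.IsoInv.HCongr (EtCore.pullConst g M) q)⟩

end

end K152.RadInv
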